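import Cfsg.Agent.Lib.KGV.Integrality
import Cfsg.Agent.Lib.CT.Degree
import Cfsg.Agent.Lib.CT.Chief
import Cfsg.Agent.Lib.Blocks.MajorBound
import Mathlib.NumberTheory.Cyclotomic.Gal

/-!
# The criterion of Knörr, Gow and Robinson for the k(GV) problem
-/

set_option autoImplicit false
set_option linter.all false
set_option maxHeartbeats 1000000

namespace Cfsg.Agent.KGV

open Cfsg Cfsg.Agent
open scoped ComplexConjugate IntermediateField

universe u

/-- Complex conjugation commutes with the Galois group of a cyclotomic field. -/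
theorem gal_conj {N : ℕ} (hN : 0 < N) {ζ : ℂ} (hζ : IsPrimitiveRoot ζ N)
    (σ : Gal((ℚ⟮ζ⟯ : IntermediateField ℚ ℂ)/ℚ)) (x : (ℚ⟮ζ⟯ : IntermediateField ℚ ℂ)) :
    ∃ y : (ℚ⟮ζ⟯ : IntermediateField ℚ ℂ), (y : ℂ) = conj (x : ℂ) ∧
      ((σ y : (ℚ⟮ζ⟯ : IntermediateField ℚ ℂ)) : ℂ) =
        conj ((σ x : (ℚ⟮ζ⟯ : IntermediateField ℚ ℂ)) : ℂ) := by
  suffices h : ∀ (a : ℂ) (ha : a ∈ (ℚ⟮ζ⟯ : IntermediateField ℚ ℂ)),
      ∃ y : (ℚ⟮ζ⟯ : IntermediateField ℚ ℂ), (y : ℂ) = conj a ∧
        ((σ y : (ℚ⟮ζ⟯ : IntermediateField ℚ ℂ)) : ℂ) =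
          conj ((σ ⟨a, ha⟩ : (ℚ⟮ζ⟯ : IntermediateField ℚ ℂ)) : ℂ) from h x x.2
  intro a ha
  induction ha using IntermediateField.adjoin_induction with
  | mem y hy =>
    have hy' : y = ζ := hy
    subst hy'
    set g : (ℚ⟮y⟯ : IntermediateField ℚ ℂ) := ⟨y, IntermediateField.mem_adjoin_simple_self ℚ y⟩
    have hc : conj y = y⁻¹ := (Complex.inv_eq_conj
      (Complex.norm_eq_one_of_pow_eq_one hζ.pow_eq_one hN.ne')).symm
    have hs : ((σ g : (ℚ⟮y⟯ : IntermediateField ℚ ℂ)) : ℂ) ^ N = 1 := by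
      have : g ^ N = 1 := Subtype.ext (by simpa [g] using hζ.pow_eq_one)
      rw [← SubmonoidClass.coe_pow, ← map_pow, this, map_one]
      rfl
    refine ⟨g⁻¹, ?_, ?_⟩
    · simp [g, hc]
    · rw [map_inv₀, IntermediateField.coe_inv,
        Complex.inv_eq_conj (Complex.norm_eq_one_of_pow_eq_one hs hN.ne')]
  | algebraMap q =>
    refine ⟨algebraMap ℚ _ q, by simp, ?_⟩
    have e : (⟨algebraMap ℚ ℂ q, (ℚ⟮ζ⟯ : IntermediateField ℚ ℂ).algebraMap_mem q⟩ :
        (ℚ⟮ζ⟯ : IntermediateField ℚ ℂ)) = algebraMap ℚ _ q := rfl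
    rw [e, AlgEquiv.commutes]
    simp
  | add a b ha hb iha ihb =>
    obtain ⟨c, hc1, hc2⟩ := iha
    obtain ⟨d, hd1, hd2⟩ := ihb
    refine ⟨c + d, by simp [hc1, hd1], ?_⟩
    have e : (⟨a + b, add_mem ha hb⟩ : (ℚ⟮ζ⟯ : IntermediateField ℚ ℂ)) = ⟨a, ha⟩ + ⟨b, hb⟩ := rfl
    rw [e, map_add, map_add]
    simp [hc2, hd2]
  | inv a ha iha =>
    obtain ⟨c, hc1, hc2⟩ := iha
    refine ⟨c⁻¹, by simp [hc1], ?_⟩
    have e : (⟨a⁻¹, inv_mem ha⟩ : (ℚ⟮ζ⟯ : IntermediateField ℚ ℂ)) =
        (⟨a, ha⟩ : (ℚ⟮ζ⟯ : IntermediateField ℚ ℂ))⁻¹ := rfl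
    rw [e, map_inv₀, map_inv₀]
    simp [hc2]
  | mul a b ha hb iha ihb =>
    obtain ⟨c, hc1, hc2⟩ := iha
    obtain ⟨d, hd1, hd2⟩ := ihb
    refine ⟨c * d, by simp [hc1, hd1], ?_⟩
    have e : (⟨a * b, mul_mem ha hb⟩ : (ℚ⟮ζ⟯ : IntermediateField ℚ ℂ)) = ⟨a, ha⟩ * ⟨b, hb⟩ := rfl
    rw [e, map_mul, map_mul]
    simp [hc2, hd2]

/-- A finite family of nonzero algebraic integers in a cyclotomic field whose squared absolute
values add up to a rational number: that number is at least the number of members. -/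
theorem card_le_of_sum_rat {ι : Type u} [Fintype ι] {N : ℕ} (hN : 0 < N) (b : ι → ℂ)
    (hb : ∀ i, b i ∈ (ℚ⟮Complex.exp (2 * Real.pi * Complex.I / N)⟯ : IntermediateField ℚ ℂ))
    (hint : ∀ i, IsIntegral ℤ (b i)) (hne : ∀ i, b i ≠ 0) {Q : ℚ}
    (hQ : ∑ i, b i * conj (b i) = (Q : ℂ)) : (Fintype.card ι : ℝ) ≤ (Q : ℝ) := by
  classical
  set ζ := Complex.exp (2 * Real.pi * Complex.I / N)
  have hζ : IsPrimitiveRoot ζ N := Complex.isPrimitiveRoot_exp N hN.ne'
  haveI : NeZero N := ⟨hN.ne'⟩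
  let K : IntermediateField ℚ ℂ := ℚ⟮ζ⟯
  haveI : IsCyclotomicExtension {N} ℚ K := ClassSum.cyclo_adjoin hζ
  haveI : FiniteDimensional ℚ K := IsCyclotomicExtension.finiteDimensional {N} ℚ K
  haveI : IsGalois ℚ K := IsCyclotomicExtension.isGalois {N} ℚ K
  choose y hy1 hy2 using fun (i : ι) (σ : Gal(K/ℚ)) => gal_conj hN hζ σ ⟨b i, hb i⟩
  let bK : ι → K := fun i => ⟨b i, hb i⟩
  let cK : ι → K := fun i => y i 1
  have hyc : ∀ i σ, y i σ = cK i := fun i σ => Subtype.ext ((hy1 i σ).trans (hy1 i 1).symm)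
  have hnorm : ∀ (i : ι) (σ : Gal(K/ℚ)), ((σ (bK i * cK i) : K) : ℂ) = ((‖((σ (bK i) : K) : ℂ)‖ ^ 2 : ℝ) : ℂ) := by
    intro i σ
    rw [map_mul, MulMemClass.coe_mul, ← hyc i σ, hy2 i σ, Complex.mul_conj']
    push_cast
    rfl
  have hlow : ∀ i, (Fintype.card Gal(K/ℚ) : ℝ) ≤ ∑ σ : Gal(K/ℚ), ‖((σ (bK i) : K) : ℂ)‖ ^ 2 := by
    intro i
    have h0 : ((bK i * cK i : K) : ℂ) ≠ 0 := by
      rw [MulMemClass.coe_mul, hy1]
      exact mul_ne_zero (hne i) (by simpa using hne i)
    have hi : IsIntegral ℤ ((bK i * cK i : K) : ℂ) := by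
      rw [MulMemClass.coe_mul, hy1]
      exact (hint i).mul (CT.isIntegral_conj (hint i))
    refine (Blocks.card_le_sum_gal_norm _ h0 hi).trans (le_of_eq ?_)
    refine Finset.sum_congr rfl fun σ _ => ?_
    rw [hnorm i σ, Complex.norm_real, Real.norm_of_nonneg (by positivity)]
  have hsum : ∀ σ : Gal(K/ℚ), ∑ i, ‖((σ (bK i) : K) : ℂ)‖ ^ 2 = (Q : ℝ) := by
    intro σ
    have e : ∑ i, bK i * cK i = algebraMap ℚ K Q := by
      apply Subtype.ext
      rw [AddSubmonoidClass.coe_finsetSum]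
      refine ((Finset.sum_congr rfl fun i _ => ?_).trans hQ).trans ?_
      · rw [MulMemClass.coe_mul, hy1]
      · simp
    have h1 : ∑ i, ((σ (bK i * cK i) : K) : ℂ) = (Q : ℂ) := by
      rw [← AddSubmonoidClass.coe_finsetSum, ← map_sum, e, AlgEquiv.commutes]
      simp
    simp only [hnorm] at h1
    exact_mod_cast h1
  have h1 : (Fintype.card ι : ℝ) * (Fintype.card Gal(K/ℚ) : ℝ) ≤
      (Q : ℝ) * (Fintype.card Gal(K/ℚ) : ℝ) := by
    calc (Fintype.card ι : ℝ) * (Fintype.card Gal(K/ℚ) : ℝ)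
        = ∑ i : ι, (Fintype.card Gal(K/ℚ) : ℝ) := by simp
      _ ≤ ∑ i : ι, ∑ σ : Gal(K/ℚ), ‖((σ (bK i) : K) : ℂ)‖ ^ 2 :=
          Finset.sum_le_sum fun i _ => hlow i
      _ = ∑ σ : Gal(K/ℚ), (Q : ℝ) := by rw [Finset.sum_comm]; exact Finset.sum_congr rfl fun σ _ => hsum σ
      _ = _ := by rw [Finset.sum_const, Finset.card_univ, nsmul_eq_mul]; ring
  exact le_of_mul_le_mul_right h1 (by exact_mod_cast Fintype.card_pos)

section Criterion

variable {X : Type u} [Group X] [Fintype X] {p : ℕ} [hp : Fact p.Prime]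

/-- The criterion: a class function `δ` on `C = C_G(v)` in the integral span of the characters,
congruent to the regular character modulo `p`, with `|δ(h)|² · |C_V(h)| ≤ |V|`. -/
theorem criterion (V : Subgroup X) [V.Normal] (hVexp : ∀ v ∈ V, v ^ p = 1)
    (hVab : ∀ a ∈ V, ∀ b ∈ V, a * b = b * a) (hidx : ¬ p ∣ V.index) (G : Subgroup X)
    (hGV : Subgroup.IsComplement' V G) (v : X) (hv : v ∈ V) (C : Subgroup X)
    (hC : C = G ⊓ Subgroup.centralizer ({v} : Set X)) [Fintype C] (δ : C → ℂ) (hδ : IsZbar C δ)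
    (h1 : δ 1 = 1) (hrad : ∀ h : C, h ≠ 1 → Rad p (δ h)) (hcyc : ∀ h : C, InCyc (δ h))
    (hnorm : ∀ h : C, ∃ n : ℕ, δ h * conj (δ h) = (n : ℂ) ∧
      n * Nat.card ↥(V ⊓ Subgroup.centralizer ({(h : X)} : Set X)) ≤ Nat.card V) :
    Nat.card (ConjClasses X) ≤ Nat.card V := by
  classical
  have hpp : p.Prime := hp.out
  have hCG : ∀ h : C, (h : X) ∈ G := fun h => (hC.le h.2).1
  have hCv : ∀ h : C, Commute (h : X) v := fun h =>
    Subgroup.mem_centralizer_singleton_iff.mp (hC.le h.2).2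
  have hGcard : Nat.card G = V.index := hGV.symm.index_eq_card.symm
  have hCX : Nat.card C ∣ Nat.card X := Subgroup.card_subgroup_dvd_card C
  have hCp : ¬ p ∣ Nat.card C := fun h => hidx (hGcard ▸ h.trans
    (Subgroup.card_dvd_of_le (hC.le.trans inf_le_left)))
  let CV : C → ℕ := fun h => Nat.card ↥(V ⊓ Subgroup.centralizer ({(h : X)} : Set X))
  choose n hn hnle using hnorm
  -- centralizers of the elements `v * h`
  have hcen : ∀ h : C, Nat.card (Subgroup.centralizer ({v * (h : X)} : Set X)) =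
      CV h * Nat.card (Subgroup.centralizer ({h} : Set C)) := by
    intro h
    have hord : orderOf v ∣ p := orderOf_dvd_of_pow_eq_one (hVexp v hv)
    have hcop : (Nat.card C).Coprime p := ((hpp.coprime_iff_not_dvd.mpr hCp)).symm
    let r := Nat.chineseRemainder hcop 0 1
    have hr : (v * (h : X)) ^ (r : ℕ) = v := by
      rw [(hCv h).symm.mul_pow]
      have e1 : (h : X) ^ (r : ℕ) = 1 := by
        obtain ⟨c, hc⟩ := Nat.modEq_zero_iff_dvd.mp r.2.1
        rw [hc, pow_mul, ← SubmonoidClass.coe_pow, pow_card_eq_one', OneMemClass.coe_one, one_pow]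
      rw [e1, mul_one]
      conv_rhs => rw [← pow_one v]
      exact pow_eq_pow_iff_modEq.mpr (Nat.ModEq.of_dvd hord r.2.2)
    let e : ↥(V ⊓ Subgroup.centralizer ({(h : X)} : Set X)) × ↥(Subgroup.centralizer ({h} : Set C)) →
        ↥(Subgroup.centralizer ({v * (h : X)} : Set X)) := fun x => ⟨(x.1 : X) * (x.2 : C), by
      refine Subgroup.mem_centralizer_singleton_iff.mpr ?_
      have a1 : Commute (x.1 : X) v := hVab _ x.1.2.1 v hv
      have a2 : Commute (x.1 : X) (h : X) := Subgroup.mem_centralizer_singleton_iff.mp x.1.2.2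
      have b1 : Commute ((x.2 : C) : X) v := hCv _
      have b2 : Commute ((x.2 : C) : X) (h : X) :=
        congrArg Subtype.val (Subgroup.mem_centralizer_singleton_iff.mp x.2.2)
      exact ((a1.mul_right a2).mul_left (b1.mul_right b2)).eq⟩
    have he : Function.Bijective e := by
      refine ⟨fun x y hxy => ?_, fun y => ?_⟩
      · have h1 : (x.1 : X) * (x.2 : C) = (y.1 : X) * (y.2 : C) := congrArg Subtype.val hxy
        have h2 : (y.1 : X)⁻¹ * x.1 = ((y.2 : C) : X) * ((x.2 : C) : X)⁻¹ := by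
          rw [eq_mul_inv_iff_mul_eq, mul_assoc, h1, inv_mul_cancel_left]
        have h3 : (y.1 : X)⁻¹ * x.1 ∈ V ⊓ G :=
          ⟨V.mul_mem (V.inv_mem y.1.2.1) x.1.2.1, h2 ▸ G.mul_mem (hCG _) (G.inv_mem (hCG _))⟩
        rw [hGV.disjoint.eq_bot, Subgroup.mem_bot] at h3
        have h4 : x.1 = y.1 := Subtype.ext (inv_mul_eq_one.mp h3).symm
        refine Prod.ext h4 (Subtype.ext (Subtype.ext ?_))
        rw [h4] at h1
        exact mul_left_cancel h1
      · obtain ⟨y, hy⟩ := y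
        have hy1 : Commute y (v * (h : X)) := Subgroup.mem_centralizer_singleton_iff.mp hy
        have hyv : Commute y v := hr ▸ hy1.pow_right (r : ℕ)
        have hyh : Commute y (h : X) := by
          have := hyv.inv_right.mul_right hy1
          rwa [inv_mul_cancel_left] at this
        obtain ⟨⟨u, g⟩, hug⟩ := hGV.2 y
        simp only at hug
        have hgv : Commute (g : X) v := by
          have hu : Commute (u : X) v := hVab _ u.2 v hv
          have := hu.inv_left.mul_left (hug ▸ hyv : Commute ((u : X) * g) v)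
          rwa [inv_mul_cancel_left] at this
        have hgC : (g : X) ∈ C := hC ▸ ⟨g.2, Subgroup.mem_centralizer_singleton_iff.mpr hgv.eq⟩
        -- compare the two factorisations of `h * u * g = u * g * h`
        have hsplit : (h : X) * (u : X) * (h : X)⁻¹ * ((h : X) * g) = (u : X) * ((g : X) * h) := by
          have := (hug ▸ hyh : Commute ((u : X) * g) (h : X)).eq
          calc (h : X) * (u : X) * (h : X)⁻¹ * ((h : X) * g) = (h : X) * ((u : X) * g) := by group
            _ = (u : X) * g * h := this.symm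
            _ = _ := by group
        have h3 : (u : X)⁻¹ * ((h : X) * (u : X) * (h : X)⁻¹) = ((g : X) * h) * ((h : X) * g)⁻¹ := by
          rw [eq_mul_inv_iff_mul_eq, mul_assoc, hsplit, inv_mul_cancel_left]
        have h4 : (u : X)⁻¹ * ((h : X) * (u : X) * (h : X)⁻¹) ∈ V ⊓ G :=
          ⟨V.mul_mem (V.inv_mem u.2) (Subgroup.Normal.conj_mem inferInstance _ u.2 _),
            h3 ▸ G.mul_mem (G.mul_mem g.2 (hCG h)) (G.inv_mem (G.mul_mem (hCG h) g.2))⟩
        rw [hGV.disjoint.eq_bot, Subgroup.mem_bot] at h4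
        have hgh : (g : X) * h = (h : X) * g := mul_inv_eq_one.mp (h3.symm.trans h4)
        have huh : (u : X) * h = (h : X) * u := (mul_inv_eq_iff_eq_mul.mp (inv_mul_eq_one.mp h4).symm).symm
        exact ⟨(⟨u, u.2, Subgroup.mem_centralizer_singleton_iff.mpr huh⟩,
          ⟨⟨g, hgC⟩, Subgroup.mem_centralizer_singleton_iff.mpr (Subtype.ext hgh)⟩), Subtype.ext hug⟩
    rw [← Nat.card_congr (Equiv.ofBijective e he), Nat.card_prod]
  -- the functions `h ↦ χ (v * h)`
  have hzb : ∀ χ : IrrCharacter X, IsZbar C (fun h => (χ : X → ℂ) (v * (h : X))) := by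
    intro χ
    have hvp : v ^ p = 1 := hVexp v hv
    let ψ : Multiplicative (ZMod p) × C →* X :=
      { toFun := fun x => v ^ (x.1.toAdd.val) * (x.2 : X)
        map_one' := by simp
        map_mul' := fun x y => by
          have hc : Commute (x.2 : X) (v ^ y.1.toAdd.val) := (hCv x.2).pow_right _
          have hv' : v ^ (x.1 * y.1).toAdd.val = v ^ x.1.toAdd.val * v ^ y.1.toAdd.val := by
            rw [← pow_add, toAdd_mul, ZMod.val_add]
            exact (pow_eq_pow_mod _ hvp).symm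
          show v ^ (x.1 * y.1).toAdd.val * ((x.2 : X) * y.2) = _
          rw [hv']
          calc v ^ x.1.toAdd.val * v ^ y.1.toAdd.val * ((x.2 : X) * y.2)
              = v ^ x.1.toAdd.val * (v ^ y.1.toAdd.val * x.2) * y.2 := by group
            _ = v ^ x.1.toAdd.val * ((x.2 : X) * v ^ y.1.toAdd.val) * y.2 := by rw [hc.eq]
            _ = _ := by group }
    have hres := CT.isCharacter_comp ψ (CT.isCharacter_of_isIrr χ.2)
    set z : Multiplicative (ZMod p) × C := (Multiplicative.ofAdd (1 : ZMod p), 1) with hz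
    have hzc : z ∈ Subgroup.center _ := Subgroup.mem_center_iff.mpr fun g =>
      Prod.ext (mul_comm _ _) (by simp [hz])
    have hψ : ∀ h : C, ψ (z * (1, h)) = v * (h : X) := fun h => by
      show v ^ ((Multiplicative.ofAdd (1 : ZMod p) * 1).toAdd.val) * ((((1 : C) * h : C)) : X) = _
      haveI : Fact (1 < p) := ⟨hpp.one_lt⟩
      rw [mul_one, one_mul, toAdd_ofAdd, ZMod.val_one, pow_one]
    have hωex : ∀ μ : IrrCharacter (Multiplicative (ZMod p) × C), ∃ ω : ℂ, IsIntegral ℤ ω ∧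
        ∀ h : C, (μ : Multiplicative (ZMod p) × C → ℂ) (z * (1, h)) =
          ω * (μ : Multiplicative (ZMod p) × C → ℂ) (1, h) := by
      intro μ
      obtain ⟨d, ρ, hρ, hρc⟩ := μ.2
      haveI := hρ
      obtain ⟨ω, hω, -⟩ := CT.central_scalar ρ hzc
      haveI := ((CT.isIrreducible_iff ρ).mp hρ).1
      obtain ⟨x, hx⟩ := exists_ne (0 : Fin d → ℂ)
      have hk : ∀ k : ℕ, ρ (z ^ k) x = ω ^ k • x := by
        intro k
        induction k with
        | zero => simp
        | succ k ih => rw [pow_succ', map_mul, Module.End.mul_apply, ih, map_smul, hω]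
                       simp [smul_smul, pow_succ]
      have h2 : ω ^ orderOf z = 1 := by
        have h1 := hk (orderOf z)
        rw [pow_orderOf_eq_one, map_one, Module.End.one_apply] at h1
        have h2 : (ω ^ orderOf z - 1) • x = 0 := by rw [sub_smul, one_smul, ← h1, sub_self]
        exact sub_eq_zero.mp ((smul_eq_zero.mp h2).resolve_right hx)
      refine ⟨ω, IsIntegral.of_pow (orderOf_pos z) (h2 ▸ isIntegral_one), fun h => ?_⟩
      rw [← hρc]
      show LinearMap.trace ℂ _ (ρ (z * (1, h))) = ω * LinearMap.trace ℂ _ (ρ (1, h))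
      rw [map_mul, hω, smul_mul_assoc, map_smul, smul_eq_mul]
      rfl
    choose ω hω hωμ using hωex
    have hfun : (fun h : C => (χ : X → ℂ) (v * (h : X))) =
        ∑ μ : IrrCharacter (Multiplicative (ZMod p) × C),
          ((CT.mult (fun x => (χ : X → ℂ) (ψ x)) μ : ℂ) * ω μ) •
            (fun h : C => (μ : Multiplicative (ZMod p) × C → ℂ) (1, h)) := by
      funext h
      have h1 := congrFun (CT.character_eq_sum hres) (z * (1, h))
      simp only [hψ, Finset.sum_apply, Pi.smul_apply, smul_eq_mul] at h1 ⊢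
      rw [h1]
      refine Finset.sum_congr rfl fun μ _ => ?_
      rw [hωμ, mul_assoc]
    rw [hfun]
    exact IsZbar.sum _ _ fun μ _ => (IsZbar.of_isCharacter (CT.isCharacter_comp
      (MonoidHom.inr (Multiplicative (ZMod p)) C) (CT.isCharacter_of_isIrr μ.2))).smul
      ((CT.isIntegral_natCast _).mul (hω μ))
  -- the coefficients
  let η : IrrCharacter X → C → ℂ := fun χ h => δ h * (χ : X → ℂ) (v * (h : X))
  have hη : ∀ χ, IsZbar C (η χ) := fun χ => hδ.mul (hzb χ)
  let b : IrrCharacter X × IrrCharacter C → ℂ := fun x => classInner (η x.1) (x.2 : C → ℂ)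
  have hbne : ∀ x, b x ≠ 0 := by
    rintro ⟨χ, θ⟩ hb
    have h0 : ∑ h : C, η χ h * conj ((θ : C → ℂ) h) = 0 := by
      have : classInner (η χ) (θ : C → ℂ) = 0 := hb
      rw [classInner] at this
      exact (mul_eq_zero.mp this).resolve_left (inv_ne_zero CT.card_ne_zero)
    obtain ⟨d, hd⟩ := CT.exists_degree (CT.isCharacter_of_isIrr θ.2)
    have hdd : CT.deg (θ : C → ℂ) = d := by
      have := CT.deg_eq (CT.isCharacter_of_isIrr θ.2); rw [hd] at this; exact_mod_cast this.symm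
    have hrest : Rad p (∑ h ∈ Finset.univ.erase (1 : C), η χ h * conj ((θ : C → ℂ) h)) :=
      Rad.sum _ _ fun h hh => by
        simp only [η, mul_assoc]
        exact (hrad h (Finset.ne_of_mem_erase hh)).mul
          ((CT.isIntegral_isCharacter (CT.isCharacter_of_isIrr χ.2) _).mul
            (CT.isIntegral_conj (CT.isIntegral_isCharacter (CT.isCharacter_of_isIrr θ.2) h)))
    rw [← Finset.add_sum_erase _ _ (Finset.mem_univ (1 : C))] at h0
    have h2 : Rad p ((χ : X → ℂ) v * (d : ℂ)) := by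
      have e : η χ 1 * conj ((θ : C → ℂ) 1) = (χ : X → ℂ) v * (d : ℂ) := by
        simp [η, h1, hd]
      rw [← e, eq_neg_of_add_eq_zero_left h0]
      exact hrest.neg
    have h3 : Rad p ((CT.deg (χ : X → ℂ) : ℂ) - (χ : X → ℂ) v) := by
      obtain ⟨e, ρ, -, hρ⟩ := χ.2
      obtain ⟨w, hw, he⟩ := CT.exists_eigenvalues_one ρ v
      have hdeg : CT.deg (χ : X → ℂ) = Module.finrank ℂ (Fin e → ℂ) := by
        rw [← hρ]; exact CT.deg_eq_finrank ρ
      rw [← hρ] at hdeg ⊢
      rw [he, hdeg]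
      have : ((Module.finrank ℂ (Fin e → ℂ) : ℕ) : ℂ) = ∑ _i : Fin (Module.finrank ℂ (Fin e → ℂ)), (1 : ℂ) := by
        simp
      rw [this, ← Finset.sum_sub_distrib]
      refine Rad.sum _ _ fun i _ => ?_
      have := (rad_sub_one hpp (orderOf_dvd_iff_pow_eq_one.mp ((orderOf_dvd_of_pow_eq_one (hw i)).trans
        (orderOf_dvd_of_pow_eq_one (hVexp v hv))))).neg
      rwa [neg_sub] at this
    have h4 : Rad p ((CT.deg (χ : X → ℂ) * d : ℕ) : ℂ) := by
      have := (h3.mul (CT.isIntegral_natCast d)).add h2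
      rw [sub_mul, sub_add_cancel] at this
      rwa [Nat.cast_mul]
    rcases hpp.dvd_mul.mp (Rad.dvd_of_natCast hpp h4) with h | h
    · exact hidx (h.trans (CT.deg_dvd_index_of_comm V χ.2
        fun a b => Subtype.ext (hVab a a.2 b b.2)))
    · refine hCp (h.trans ?_)
      obtain ⟨e, ρ, hρi, hρ⟩ := θ.2
      haveI := hρi
      rw [← hdd, ← hρ, CT.deg_eq_finrank]
      exact CT.finrank_dvd_card ρ
  obtain ⟨N₀, hN₀, hK₀⟩ := exists_common Finset.univ δ fun h _ => hcyc h
  have hcyc' : ∀ (H : Type u) [Group H] [Finite H] (χ : H → ℂ), IsCharacter H χ →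
      Nat.card H ∣ Nat.card X → ∀ x, χ x ∈ (ℚ⟮Complex.exp (2 * Real.pi * Complex.I / (N₀ * Nat.card X : ℕ))⟯ :
        IntermediateField ℚ ℂ) := by
    intro H _ _ χ hχ hdvd x
    obtain ⟨d, ρ, rfl⟩ := hχ
    obtain ⟨w, hw, he⟩ := CT.exists_eigenvalues_one ρ x
    rw [he]
    have hM : 0 < N₀ * Nat.card X := Nat.mul_pos hN₀ Nat.card_pos
    haveI : NeZero (N₀ * Nat.card X) := ⟨hM.ne'⟩
    refine sum_mem fun i _ => ?_
    obtain ⟨j, -, hj⟩ := (Complex.isPrimitiveRoot_exp _ hM.ne').eq_pow_of_pow_eq_one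
      (show w i ^ (N₀ * Nat.card X) = 1 from orderOf_dvd_iff_pow_eq_one.mp
        (((orderOf_dvd_of_pow_eq_one (hw i)).trans (orderOf_dvd_natCard x)).trans
          (hdvd.trans (dvd_mul_left _ _))))
    rw [← hj]
    exact pow_mem (IntermediateField.mem_adjoin_simple_self ℚ _) j
  have hM : 0 < N₀ * Nat.card X := Nat.mul_pos hN₀ Nat.card_pos
  have hbK : ∀ x, b x ∈ (ℚ⟮Complex.exp (2 * Real.pi * Complex.I / (N₀ * Nat.card X : ℕ))⟯ :
      IntermediateField ℚ ℂ) := by
    rintro ⟨χ, θ⟩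
    show classInner (η χ) (θ : C → ℂ) ∈ _
    rw [classInner]
    refine mul_mem (inv_mem (natCast_mem _ _)) (sum_mem fun h _ => mul_mem (mul_mem ?_ ?_) ?_)
    · exact cyc_mono hM (dvd_mul_right _ _) (hK₀ h (Finset.mem_univ h))
    · exact hcyc' X _ (CT.isCharacter_of_isIrr χ.2) dvd_rfl _
    · rw [← CT.char_inv_eq_conj (CT.isCharacter_of_isIrr θ.2)]
      exact hcyc' C _ (CT.isCharacter_of_isIrr θ.2) hCX _
  let S : ℕ := ∑ h : C, n h * CV h * Nat.card (Subgroup.centralizer ({h} : Set C))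
  have hQ : ∑ x, b x * conj (b x) = (((S : ℚ) / (Nat.card C : ℚ) : ℚ) : ℂ) := by
    have hpar : ∀ χ, ∑ θ : IrrCharacter C, b (χ, θ) * conj (b (χ, θ)) =
        (Nat.card C : ℂ)⁻¹ * ∑ h : C, η χ h * conj (η χ h) := by
      intro χ
      show ∑ θ : IrrCharacter C, classInner (η χ) (θ : C → ℂ) * conj (classInner (η χ) (θ : C → ℂ)) = _
      rw [← CT.classInner_eq_sum (hη χ).1]
      rfl
    have hcol : ∀ h : C, ∑ χ : IrrCharacter X, η χ h * conj (η χ h) =
        ((n h * CV h * Nat.card (Subgroup.centralizer ({h} : Set C)) : ℕ) : ℂ) := by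
      intro h
      have hco := CT.column_orthogonality (v * (h : X)) (v * (h : X))
      rw [if_pos (IsConj.refl _), hcen h] at hco
      have e : ∀ χ : IrrCharacter X, η χ h * conj (η χ h) = (n h : ℂ) *
          ((χ : X → ℂ) (v * (h : X)) * conj ((χ : X → ℂ) (v * (h : X)))) := fun χ => by
        rw [← hn h]
        simp only [η, map_mul]
        ring
      rw [Finset.sum_congr rfl fun χ _ => e χ, ← Finset.mul_sum, hco]
      push_cast
      ring
    rw [Fintype.sum_prod_type, Finset.sum_congr rfl fun χ _ => hpar χ, ← Finset.mul_sum,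
      Finset.sum_comm, Finset.sum_congr rfl fun h _ => hcol h]
    simp only [S]
    push_cast
    rw [div_eq_inv_mul]
  have hmain := card_le_of_sum_rat hM b hbK (fun x => (hη x.1).2 x.2) hbne hQ
  have hclass : ∑ h : C, Nat.card (Subgroup.centralizer ({h} : Set C)) =
      Nat.card C * Fintype.card (IrrCharacter C) := by
    have h2 : ∑ h : C, (Nat.card (Subgroup.centralizer ({h} : Set C)) : ℂ) =
        (Nat.card C : ℂ) * (Fintype.card (IrrCharacter C) : ℂ) := by
      have e : ∀ h : C, (Nat.card (Subgroup.centralizer ({h} : Set C)) : ℂ) =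
          ∑ θ : IrrCharacter C, (θ : C → ℂ) h * conj ((θ : C → ℂ) h) := fun h => by
        rw [CT.column_orthogonality, if_pos (IsConj.refl _)]
      rw [Finset.sum_congr rfl fun h _ => e h, Finset.sum_comm]
      have e2 : ∀ θ : IrrCharacter C, ∑ h : C, (θ : C → ℂ) h * conj ((θ : C → ℂ) h) = (Nat.card C : ℂ) :=
        fun θ => by rw [← CT.classInner_self_eq_sum, CT.irr_inner_self θ.2, mul_one]
      rw [Finset.sum_congr rfl fun θ _ => e2 θ, Finset.sum_const, Finset.card_univ, nsmul_eq_mul,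
        mul_comm]
    exact_mod_cast h2
  have hS : S ≤ Nat.card V * (Nat.card C * Fintype.card (IrrCharacter C)) := by
    rw [← hclass, Finset.mul_sum]
    exact Finset.sum_le_sum fun h _ => Nat.mul_le_mul_right _ (hnle h)
  rw [Fintype.card_prod, Rat.cast_div, Rat.cast_natCast, Rat.cast_natCast,
    le_div_iff₀ (by exact_mod_cast Nat.card_pos)] at hmain
  have h5 : Fintype.card (IrrCharacter X) * Fintype.card (IrrCharacter C) * Nat.card C ≤ S := by
    exact_mod_cast hmain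
  have h6 := h5.trans hS
  have hpos : 0 < Fintype.card (IrrCharacter C) * Nat.card C :=
    Nat.mul_pos (Fintype.card_pos_iff.mpr ⟨CT.trivIrr C⟩) Nat.card_pos
  rw [← CT.card_irr_eq_card_conjClasses, Nat.card_eq_fintype_card]
  refine Nat.le_of_mul_le_mul_right ?_ hpos
  calc Fintype.card (IrrCharacter X) * (Fintype.card (IrrCharacter C) * Nat.card C)
      = Fintype.card (IrrCharacter X) * Fintype.card (IrrCharacter C) * Nat.card C :=
        (mul_assoc _ _ _).symm
    _ ≤ _ := h6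
    _ = _ := by ring

end Criterion

end Cfsg.Agent.KGV
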