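import Cfsg.Agent.Lib.CT.Orthogonality
import Cfsg.Agent.Lib.CT.Integral
import Cfsg.Prelude.Def_Blocks
import Mathlib.NumberTheory.Cyclotomic.Basic
import Mathlib.Algebra.CharP.Lemmas
import Mathlib.RingTheory.Ideal.Operations

/-!
# Integrality tools for the k(GV) criteria

The radical of `p` in the algebraic integers, the span of the irreducible characters with
algebraic integer coefficients, cyclotomic numbers.
-/

set_option autoImplicit false
set_option linter.all false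

namespace Cfsg.Agent.KGV

open Cfsg Cfsg.Agent
open scoped ComplexConjugate IntermediateField

universe u v

/-- `x` is an algebraic integer lying in every prime over `p`. -/
def Rad (p : ℕ) (x : ℂ) : Prop :=
  ∃ a : AlgInt, (a : ℂ) = x ∧ a ∈ (Ideal.span {(p : AlgInt)}).radical

section Rad

variable {p : ℕ} {x y : ℂ}

theorem Rad.integral (h : Rad p x) : IsIntegral ℤ x := by
  obtain ⟨a, rfl, -⟩ := h
  exact a.2

theorem Rad.zero : Rad p 0 := ⟨0, rfl, Ideal.zero_mem _⟩

theorem Rad.add (hx : Rad p x) (hy : Rad p y) : Rad p (x + y) := by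
  obtain ⟨a, rfl, ha⟩ := hx
  obtain ⟨b, rfl, hb⟩ := hy
  exact ⟨a + b, rfl, Ideal.add_mem _ ha hb⟩

theorem Rad.neg (hx : Rad p x) : Rad p (-x) := by
  obtain ⟨a, rfl, ha⟩ := hx
  exact ⟨-a, rfl, neg_mem ha⟩

theorem Rad.sub (hx : Rad p x) (hy : Rad p y) : Rad p (x - y) := by
  rw [sub_eq_add_neg]; exact hx.add hy.neg

theorem Rad.mul (hx : Rad p x) (hy : IsIntegral ℤ y) : Rad p (x * y) := by
  obtain ⟨a, rfl, ha⟩ := hx
  exact ⟨a * ⟨y, hy⟩, rfl, Ideal.mul_mem_right _ _ ha⟩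

theorem Rad.sum {ι : Type v} (s : Finset ι) (f : ι → ℂ) (h : ∀ i ∈ s, Rad p (f i)) :
    Rad p (∑ i ∈ s, f i) := by
  classical
  induction s using Finset.induction_on with
  | empty => simpa using Rad.zero
  | insert a t hat ih =>
    rw [Finset.sum_insert hat]
    exact (h a (Finset.mem_insert_self a t)).add
      (ih fun i hi => h i (Finset.mem_insert_of_mem hi))

theorem Rad.of_pow {k : ℕ} (hx : IsIntegral ℤ x) (h : Rad p (x ^ k)) : Rad p x := by
  obtain ⟨a, ha, hmem⟩ := h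
  refine ⟨⟨x, hx⟩, rfl, ?_⟩
  have e : a = (⟨x, hx⟩ : AlgInt) ^ k := Subtype.ext (by simpa using ha)
  rw [e] at hmem
  exact Ideal.radical_isRadical _ (Ideal.mem_radical_of_pow_mem hmem |> fun h => ⟨1, by simpa using h⟩)

theorem Rad.natCast_of_dvd {n : ℕ} (h : p ∣ n) : Rad p (n : ℂ) := by
  obtain ⟨c, rfl⟩ := h
  exact ⟨(p : AlgInt) * c, by push_cast; rfl,
    Ideal.le_radical (Ideal.mul_mem_right _ _ (Ideal.mem_span_singleton_self _))⟩

theorem Rad.dvd_of_natCast (hp : p.Prime) {n : ℕ} (h : Rad p (n : ℂ)) : p ∣ n := by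
  obtain ⟨a, ha, hmem⟩ := h
  obtain ⟨k, hk⟩ := hmem
  obtain ⟨c, hc⟩ := Ideal.mem_span_singleton.mp hk
  have h1 : ((n ^ k : ℕ) : ℂ) / (p : ℂ) = (c : ℂ) := by
    have h2 := congrArg Subtype.val hc
    simp only [SubmonoidClass.coe_pow, MulMemClass.coe_mul] at h2
    rw [ha] at h2
    rw [Nat.cast_pow, h2, show ((p : AlgInt) : ℂ) = (p : ℂ) from map_natCast AlgInt.val p,
      mul_div_cancel_left₀ _ (Nat.cast_ne_zero.mpr hp.ne_zero)]
  exact hp.dvd_of_dvd_pow (CT.dvd_of_isIntegral_div hp.ne_zero (h1 ▸ c.2))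

theorem rad_sub_one (hp : p.Prime) {ω : ℂ} (hω : ω ^ p = 1) : Rad p (ω - 1) := by
  have hint : IsIntegral ℤ ω := IsIntegral.of_pow hp.pos (by rw [hω]; exact isIntegral_one)
  let w : AlgInt := ⟨ω, hint⟩
  have hw : w ^ p = 1 := Subtype.ext (by simpa [w] using hω)
  refine ⟨w - 1, rfl, p, Ideal.mem_span_singleton.mpr ?_⟩
  obtain ⟨r, hr⟩ := exists_add_pow_prime_eq hp (w - 1) 1
  rw [sub_add_cancel, hw, one_pow] at hr
  exact ⟨-((w - 1) * 1 * r), by linear_combination -hr⟩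

theorem Rad.eq_self_of_one_sub {a b : ℂ} (h : Rad p (a - b)) (hb : Rad p b) : Rad p a := by
  simpa using h.add hb

end Rad

/-- A class function in the span of the irreducible characters over the algebraic integers. -/
def IsZbar (G : Type u) [Group G] [Fintype G] (f : G → ℂ) : Prop :=
  IsClassFunction G f ∧ ∀ θ : IrrCharacter G, IsIntegral ℤ (classInner f (θ : G → ℂ))

section Zbar

variable {G : Type u} [Group G] [Fintype G] {f g : G → ℂ}

theorem IsZbar.of_isCharacter (h : IsCharacter G f) : IsZbar G f := by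
  refine ⟨CT.isClassFunction_of_isCharacter h, fun θ => ?_⟩
  obtain ⟨n, hn⟩ := CT.classInner_character_nat h (CT.isCharacter_of_isIrr θ.2)
  rw [hn]
  exact CT.isIntegral_natCast n

theorem IsZbar.smul {c : ℂ} (hc : IsIntegral ℤ c) (h : IsZbar G f) : IsZbar G (c • f) := by
  refine ⟨fun a b => ?_, fun θ => ?_⟩
  · simp only [Pi.smul_apply, h.1 a b]
  · rw [CT.classInner_smul_left]
    exact hc.mul (h.2 θ)

theorem IsZbar.add (h : IsZbar G f) (h' : IsZbar G g) : IsZbar G (f + g) := by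
  refine ⟨fun a b => ?_, fun θ => ?_⟩
  · simp only [Pi.add_apply, h.1 a b, h'.1 a b]
  · rw [CT.classInner_add_left]
    exact (h.2 θ).add (h'.2 θ)

theorem IsZbar.const {c : ℂ} (hc : IsIntegral ℤ c) : IsZbar G (fun _ => c) := by
  have := (IsZbar.of_isCharacter (CT.isCharacter_one (G := G))).smul hc
  convert this using 1
  funext x
  simp

theorem IsZbar.sum {ι : Type v} (s : Finset ι) (F : ι → G → ℂ) (h : ∀ i ∈ s, IsZbar G (F i)) :
    IsZbar G (∑ i ∈ s, F i) := by
  classical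
  induction s using Finset.induction_on with
  | empty => rw [Finset.sum_empty]; exact IsZbar.const (G := G) (c := 0) isIntegral_zero
  | insert a t hat ih =>
    rw [Finset.sum_insert hat]
    exact (h a (Finset.mem_insert_self a t)).add
      (ih fun i hi => h i (Finset.mem_insert_of_mem hi))

theorem IsZbar.expand (h : IsZbar G f) :
    f = ∑ χ : IrrCharacter G, classInner f (χ : G → ℂ) • (χ : G → ℂ) :=
  CT.classFunction_eq_sum h.1

theorem IsZbar.mul (h : IsZbar G f) (h' : IsZbar G g) : IsZbar G (f * g) := by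
  rw [h.expand, h'.expand, Finset.sum_mul]
  refine IsZbar.sum _ _ fun χ _ => ?_
  rw [Finset.mul_sum]
  refine IsZbar.sum _ _ fun ψ _ => ?_
  rw [smul_mul_assoc, mul_smul_comm, smul_smul]
  exact (IsZbar.of_isCharacter
    (CT.isCharacter_mul (CT.isCharacter_of_isIrr χ.2) (CT.isCharacter_of_isIrr ψ.2))).smul
    ((h.2 χ).mul (h'.2 ψ))

theorem IsZbar.integral (h : IsZbar G f) (x : G) : IsIntegral ℤ (f x) := by
  rw [congrFun h.expand x, Finset.sum_apply]
  exact IsIntegral.sum _ fun χ _ =>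
    (h.2 χ).mul (CT.isIntegral_isCharacter (CT.isCharacter_of_isIrr χ.2) x)

theorem IsZbar.card_smul (hf : IsClassFunction G f) (hint : ∀ x, IsIntegral ℤ (f x)) :
    IsZbar G ((Nat.card G : ℂ) • f) := by
  refine ⟨fun a b => ?_, fun θ => ?_⟩
  · simp only [Pi.smul_apply, hf a b]
  · rw [CT.classInner_smul_left, classInner, ← mul_assoc, mul_inv_cancel₀ CT.card_ne_zero, one_mul]
    exact IsIntegral.sum _ fun x _ => (hint x).mul
      (CT.isIntegral_conj (CT.isIntegral_isCharacter (CT.isCharacter_of_isIrr θ.2) x))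

theorem IsZbar.of_coprime {n : ℕ} (hn : n.Coprime (Nat.card G)) (hf : IsClassFunction G f)
    (hint : ∀ x, IsIntegral ℤ (f x)) (h : IsZbar G ((n : ℂ) • f)) : IsZbar G f := by
  have hb := Nat.gcd_eq_gcd_ab n (Nat.card G)
  rw [hn.gcd_eq_one, Nat.cast_one] at hb
  have e : f = ((n.gcdA (Nat.card G) : ℤ) : ℂ) • ((n : ℂ) • f) +
      ((n.gcdB (Nat.card G) : ℤ) : ℂ) • ((Nat.card G : ℂ) • f) := by
    rw [smul_smul, smul_smul, ← add_smul]
    have : ((n.gcdA (Nat.card G) : ℤ) : ℂ) * n + ((n.gcdB (Nat.card G) : ℤ) : ℂ) * Nat.card G = 1 := by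
      have := congrArg (fun z : ℤ => (z : ℂ)) hb
      push_cast at this
      linear_combination -this
    rw [this, one_smul]
  rw [e]
  exact (h.smul (CT.isIntegral_intCast _)).add
    ((IsZbar.card_smul hf hint).smul (CT.isIntegral_intCast _))

/-- A nowhere vanishing element of the span divides the product of its values in the span. -/
theorem IsZbar.exists_quot (h : IsZbar G f) (s : Finset G) :
    ∃ Φ : G → ℂ, IsZbar G Φ ∧ ∀ x ∈ s, f x * Φ x = ∏ a ∈ s, f a := by
  classical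
  induction s using Finset.induction_on with
  | empty => exact ⟨_, IsZbar.const isIntegral_one, fun x hx => absurd hx (Finset.notMem_empty x)⟩
  | insert a t hat ih =>
    obtain ⟨Φ, hΦ, hval⟩ := ih
    set P := ∏ b ∈ t, f b with hP
    have hPi : IsIntegral ℤ P := IsIntegral.prod _ fun b _ => h.integral b
    refine ⟨(fun _ => P) + ((fun _ => f a) + (-1 : ℂ) • f) * Φ,
      (IsZbar.const hPi).add (((IsZbar.const (h.integral a)).add
        (h.smul isIntegral_one.neg)).mul hΦ), fun x hx => ?_⟩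
    rw [Finset.prod_insert hat, ← hP]
    simp only [Pi.add_apply, Pi.mul_apply, Pi.smul_apply, smul_eq_mul]
    rcases Finset.mem_insert.mp hx with rfl | hx
    · ring
    · linear_combination (f a - f x) * hval x hx

end Zbar

/-- A cyclotomic number. -/
def InCyc (x : ℂ) : Prop :=
  ∃ n : ℕ, 0 < n ∧ x ∈ (ℚ⟮Complex.exp (2 * Real.pi * Complex.I / n)⟯ : IntermediateField ℚ ℂ)

theorem cyc_mono {m n : ℕ} (hn : 0 < n) (h : m ∣ n) {x : ℂ}
    (hx : x ∈ (ℚ⟮Complex.exp (2 * Real.pi * Complex.I / m)⟯ : IntermediateField ℚ ℂ)) :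
    x ∈ (ℚ⟮Complex.exp (2 * Real.pi * Complex.I / n)⟯ : IntermediateField ℚ ℂ) := by
  have hm : 0 < m := Nat.pos_of_dvd_of_pos h hn
  refine (IntermediateField.adjoin_simple_le_iff.mpr ?_) hx
  haveI : NeZero n := ⟨hn.ne'⟩
  obtain ⟨i, -, hi⟩ := (Complex.isPrimitiveRoot_exp n hn.ne').eq_pow_of_pow_eq_one
    (show Complex.exp (2 * Real.pi * Complex.I / m) ^ n = 1 by
      obtain ⟨c, rfl⟩ := h
      rw [pow_mul, (Complex.isPrimitiveRoot_exp m hm.ne').pow_eq_one, one_pow])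
  rw [← hi]
  exact pow_mem (IntermediateField.mem_adjoin_simple_self ℚ _) i

theorem InCyc.of_pow_eq_one {n : ℕ} (hn : 0 < n) {ω : ℂ} (h : ω ^ n = 1) : InCyc ω := by
  haveI : NeZero n := ⟨hn.ne'⟩
  obtain ⟨i, -, hi⟩ := (Complex.isPrimitiveRoot_exp n hn.ne').eq_pow_of_pow_eq_one h
  exact ⟨n, hn, hi ▸ pow_mem (IntermediateField.mem_adjoin_simple_self ℚ _) i⟩

theorem InCyc.natCast (k : ℕ) : InCyc (k : ℂ) :=
  ⟨1, one_pos, natCast_mem _ k⟩

theorem InCyc.add {x y : ℂ} (hx : InCyc x) (hy : InCyc y) : InCyc (x + y) := by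
  obtain ⟨m, hm, hx⟩ := hx
  obtain ⟨n, hn, hy⟩ := hy
  exact ⟨m * n, Nat.mul_pos hm hn, add_mem (cyc_mono (Nat.mul_pos hm hn) (dvd_mul_right m n) hx)
    (cyc_mono (Nat.mul_pos hm hn) (dvd_mul_left n m) hy)⟩

theorem InCyc.mul {x y : ℂ} (hx : InCyc x) (hy : InCyc y) : InCyc (x * y) := by
  obtain ⟨m, hm, hx⟩ := hx
  obtain ⟨n, hn, hy⟩ := hy
  exact ⟨m * n, Nat.mul_pos hm hn, mul_mem (cyc_mono (Nat.mul_pos hm hn) (dvd_mul_right m n) hx)
    (cyc_mono (Nat.mul_pos hm hn) (dvd_mul_left n m) hy)⟩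

theorem InCyc.inv {x : ℂ} (hx : InCyc x) : InCyc x⁻¹ := by
  obtain ⟨m, hm, hx⟩ := hx
  exact ⟨m, hm, inv_mem hx⟩

theorem InCyc.sum {ι : Type v} (s : Finset ι) (F : ι → ℂ) (h : ∀ i ∈ s, InCyc (F i)) :
    InCyc (∑ i ∈ s, F i) := by
  classical
  induction s using Finset.induction_on with
  | empty => simpa using InCyc.natCast 0
  | insert a t hat ih =>
    rw [Finset.sum_insert hat]
    exact (h a (Finset.mem_insert_self a t)).add
      (ih fun i hi => h i (Finset.mem_insert_of_mem hi))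

theorem InCyc.of_character {G : Type u} [Group G] [Finite G] {χ : G → ℂ} (h : IsCharacter G χ)
    (x : G) : InCyc (χ x) := by
  obtain ⟨d, ρ, rfl⟩ := h
  obtain ⟨ω, hω, he⟩ := CT.exists_eigenvalues_one ρ x
  rw [he]
  exact InCyc.sum _ _ fun i _ => InCyc.of_pow_eq_one (orderOf_pos x) (hω i)

/-- Finitely many cyclotomic numbers lie in one cyclotomic field. -/
theorem exists_common {ι : Type v} (s : Finset ι) (F : ι → ℂ) (h : ∀ i ∈ s, InCyc (F i)) :
    ∃ n : ℕ, 0 < n ∧ ∀ i ∈ s,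
      F i ∈ (ℚ⟮Complex.exp (2 * Real.pi * Complex.I / n)⟯ : IntermediateField ℚ ℂ) := by
  classical
  induction s using Finset.induction_on with
  | empty => exact ⟨1, one_pos, fun i hi => absurd hi (Finset.notMem_empty i)⟩
  | insert a t hat ih =>
    obtain ⟨n, hn, hm⟩ := ih fun i hi => h i (Finset.mem_insert_of_mem hi)
    obtain ⟨m, hm0, hma⟩ := h a (Finset.mem_insert_self a t)
    refine ⟨m * n, Nat.mul_pos hm0 hn, fun i hi => ?_⟩
    rcases Finset.mem_insert.mp hi with rfl | hi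
    · exact cyc_mono (Nat.mul_pos hm0 hn) (dvd_mul_right m n) hma
    · exact cyc_mono (Nat.mul_pos hm0 hn) (dvd_mul_left n m) (hm i hi)

end Cfsg.Agent.KGV
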