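import Cfsg.Agent.Lib.KGV.Integrality
import Mathlib.NumberTheory.LegendreSymbol.AddCharacter
import Mathlib.GroupTheory.PGroup

/-!
# Square roots of permutation characters: the calculus and Gauss sums
-/

set_option autoImplicit false
set_option linter.all false
set_option maxHeartbeats 1000000

namespace Cfsg.Agent.KGV

open Cfsg Cfsg.Agent
open scoped ComplexConjugate

universe u v

/-- `Γ` is a square root of `π` in the span of the characters. -/
structure IsRoot (C : Type u) [Group C] [Fintype C] (p : ℕ) (π : C → ℕ) (Γ : C → ℂ) : Prop where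
  zbar : IsZbar C Γ
  norm : ∀ h, Γ h * conj (Γ h) = (π h : ℂ)
  quot : ∀ h, IsIntegral ℤ (Γ 1 / Γ h)
  rad : ∀ h, π h < π 1 → Rad p (Γ 1 / Γ h)
  cyc : ∀ h, InCyc (Γ h)
  pow : ∀ h, ∃ k : ℕ, π h = p ^ k
  le : ∀ h, π h ≤ π 1

/-- `π` has a square root in the span of the characters. -/
def HasRoot (C : Type u) [Group C] [Fintype C] (p : ℕ) (π : C → ℕ) : Prop :=
  ∃ Γ : C → ℂ, IsRoot C p π Γ

section Calculus

variable {C : Type u} [Group C] [Fintype C] {p : ℕ} {π π' : C → ℕ}

theorem HasRoot.congr (h : HasRoot C p π) (he : ∀ x, π x = π' x) : HasRoot C p π' :=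
  (funext he : π = π') ▸ h

theorem hasRoot_one : HasRoot C p (fun _ => 1) :=
  ⟨fun _ => 1, IsZbar.const isIntegral_one, fun h => by simp, fun h => by simpa using isIntegral_one,
    fun h hh => absurd hh (lt_irrefl 1), fun h => by simpa using InCyc.natCast 1,
    fun h => ⟨0, rfl⟩, fun h => le_rfl⟩

theorem HasRoot.mul (hp : p.Prime) (h : HasRoot C p π) (h' : HasRoot C p π') :
    HasRoot C p (fun x => π x * π' x) := by
  obtain ⟨Γ, hΓ⟩ := h
  obtain ⟨Δ, hΔ⟩ := h'
  refine ⟨Γ * Δ, hΓ.zbar.mul hΔ.zbar, fun x => ?_, fun x => ?_, fun x hx => ?_,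
    fun x => (hΓ.cyc x).mul (hΔ.cyc x), fun x => ?_, fun x => Nat.mul_le_mul (hΓ.le x) (hΔ.le x)⟩
  · simp only [Pi.mul_apply, map_mul, Nat.cast_mul, ← hΓ.norm x, ← hΔ.norm x]
    ring
  · simp only [Pi.mul_apply, mul_div_mul_comm]
    exact (hΓ.quot x).mul (hΔ.quot x)
  · simp only [Pi.mul_apply, mul_div_mul_comm]
    rcases (hΓ.le x).lt_or_eq with h1 | h1
    · exact (hΓ.rad x h1).mul (hΔ.quot x)
    · have h2 : π' x < π' 1 := by
        refine (hΔ.le x).lt_or_eq.resolve_right fun h2 => ?_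
        simp only [h1, h2] at hx
        exact lt_irrefl _ hx
      rw [mul_comm]
      exact (hΔ.rad x h2).mul (hΓ.quot x)
  · obtain ⟨a, ha⟩ := hΓ.pow x
    obtain ⟨b, hb⟩ := hΔ.pow x
    exact ⟨a + b, by rw [ha, hb, pow_add]⟩

/-- A permutation character is a square root of its square. -/
theorem hasRoot_sq (hp : p.Prime) (hz : IsZbar C (fun x => (π x : ℂ)))
    (hpow : ∀ x, ∃ k : ℕ, π x = p ^ k) (hle : ∀ x, π x ≤ π 1) :
    HasRoot C p (fun x => π x * π x) := by
  have hdvd : ∀ x, ∃ k : ℕ, π 1 = p ^ k * π x ∧ (π x < π 1 → 0 < k) := by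
    intro x
    obtain ⟨a, ha⟩ := hpow x
    obtain ⟨b, hb⟩ := hpow 1
    have hab : a ≤ b := (Nat.pow_le_pow_iff_right hp.one_lt).mp (ha ▸ hb ▸ hle x)
    refine ⟨b - a, by rw [ha, hb, ← pow_add, Nat.sub_add_cancel hab], fun h => ?_⟩
    rw [ha, hb, Nat.pow_lt_pow_iff_right hp.one_lt] at h
    omega
  have hq : ∀ x, ∃ k : ℕ, (π 1 : ℂ) / (π x : ℂ) = ((p ^ k : ℕ) : ℂ) ∧ (π x < π 1 → 0 < k) := by
    intro x
    obtain ⟨k, hk, hk'⟩ := hdvd x
    obtain ⟨a, ha⟩ := hpow x
    refine ⟨k, ?_, hk'⟩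
    rw [hk, Nat.cast_mul, mul_div_assoc, div_self, mul_one]
    rw [ha]
    exact_mod_cast pow_ne_zero a hp.ne_zero
  refine ⟨fun x => (π x : ℂ), hz, fun x => by simp, fun x => ?_, fun x hx => ?_,
    fun x => InCyc.natCast _, fun x => ?_, fun x => Nat.mul_le_mul (hle x) (hle x)⟩
  · obtain ⟨k, hk, -⟩ := hq x
    show IsIntegral ℤ ((π 1 : ℂ) / (π x : ℂ))
    rw [hk]
    exact CT.isIntegral_natCast _
  · obtain ⟨k, hk, hk'⟩ := hq x
    show Rad p ((π 1 : ℂ) / (π x : ℂ))
    rw [hk]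
    refine Rad.natCast_of_dvd (dvd_pow_self p (hk' ?_).ne')
    exact (hle x).lt_or_eq.resolve_right fun h => by simp [h] at hx
  · obtain ⟨a, ha⟩ := hpow x
    exact ⟨a + a, by rw [ha, pow_add]⟩

/-- From a root to the function `δ` of the criterion. -/
theorem HasRoot.exists_delta (hp : p.Prime) (hcop : ¬ p ∣ Nat.card C) (h : HasRoot C p π)
    (hlt : ∀ x, x ≠ 1 → π x < π 1) :
    ∃ δ : C → ℂ, IsZbar C δ ∧ δ 1 = 1 ∧ (∀ x, x ≠ 1 → Rad p (δ x)) ∧ (∀ x, InCyc (δ x)) ∧
      ∀ x, ∃ n : ℕ, δ x * conj (δ x) = (n : ℂ) ∧ n * π x = π 1 := by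
  classical
  obtain ⟨Γ, hΓ⟩ := h
  have hπ0 : ∀ x, (π x : ℂ) ≠ 0 := fun x => by
    obtain ⟨a, ha⟩ := hΓ.pow x
    rw [ha]
    exact_mod_cast pow_ne_zero a hp.ne_zero
  have hne : ∀ x, Γ x ≠ 0 := fun x h0 => hπ0 x (by rw [← hΓ.norm x, h0, zero_mul])
  refine ⟨fun x => Γ 1 / Γ x, ?_, div_self (hne 1), fun x hx => hΓ.rad x (hlt x hx),
    fun x => by show InCyc (Γ 1 / Γ x); rw [div_eq_mul_inv]; exact (hΓ.cyc 1).mul (hΓ.cyc x).inv, fun x => ?_⟩
  · obtain ⟨Φ, hΦ, hval⟩ := hΓ.zbar.exists_quot Finset.univ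
    set P := ∏ a ∈ (Finset.univ : Finset C), Γ a with hP
    choose a ha using hΓ.pow
    have hN : P * conj P = ((p ^ (∑ x, a x) : ℕ) : ℂ) := by
      rw [hP, map_prod, ← Finset.prod_mul_distrib, ← Finset.prod_pow_eq_pow_sum, Nat.cast_prod]
      exact Finset.prod_congr rfl fun x _ => by rw [hΓ.norm, ha]
    have hP0 : P ≠ 0 := Finset.prod_ne_zero_iff.mpr fun x _ => hne x
    refine IsZbar.of_coprime (n := p ^ (∑ x, a x)) (Nat.Coprime.pow_left _
      (hp.coprime_iff_not_dvd.mpr hcop)) (fun g x => ?_) (fun x => hΓ.quot x) ?_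
    · simp only [hΓ.zbar.1 g x]
    · have e : (((p ^ (∑ x, a x) : ℕ) : ℂ) • fun x => Γ 1 / Γ x) = (conj P * Γ 1) • Φ := by
        funext x
        simp only [Pi.smul_apply, smul_eq_mul, ← hN]
        have := hval x (Finset.mem_univ x)
        rw [mul_div_assoc', div_eq_iff (hne x)]
        linear_combination (-(conj P) * Γ 1) * this
      rw [e]
      exact hΦ.smul ((CT.isIntegral_conj (IsIntegral.prod _ fun x _ => hΓ.zbar.integral x)).mul
        (hΓ.zbar.integral 1))
  · obtain ⟨b, hb⟩ := hΓ.pow 1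
    obtain ⟨c, hc⟩ := hΓ.pow x
    have hcb : c ≤ b := (Nat.pow_le_pow_iff_right hp.one_lt).mp (hc ▸ hb ▸ hΓ.le x)
    refine ⟨p ^ (b - c), ?_, by rw [hb, hc, ← pow_add, Nat.sub_add_cancel hcb]⟩
    show Γ 1 / Γ x * conj (Γ 1 / Γ x) = _
    rw [map_div₀, div_mul_div_comm, hΓ.norm, hΓ.norm, div_eq_iff (hπ0 x), hb, hc, ← Nat.cast_mul,
      ← pow_add, Nat.sub_add_cancel hcb]

end Calculus

section Action

variable {C : Type u} [Group C] [Fintype C] {M : Type u} [CommGroup M] [Finite M] {p : ℕ}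
  (α : C →* MulAut M)

/-- The homomorphism `w ↦ h(w) / w`. -/
def moveHom (h : C) : M →* M where
  toFun w := α h w * w⁻¹
  map_one' := by simp
  map_mul' a b := by
    show α h (a * b) * (a * b)⁻¹ = α h a * a⁻¹ * (α h b * b⁻¹)
    rw [map_mul, mul_inv, mul_mul_mul_comm]

/-- The number of fixed points. -/
noncomputable def fixCard (h : C) : ℕ := Nat.card (moveHom α h).ker

theorem mem_ker_move {h : C} {w : M} : w ∈ (moveHom α h).ker ↔ α h w = w := by
  rw [MonoidHom.mem_ker]
  exact mul_inv_eq_one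

theorem fixCard_one : fixCard α 1 = Nat.card M := by
  have : (moveHom α (1 : C)).ker = ⊤ := by
    rw [eq_top_iff]; intro w _; rw [mem_ker_move]; simp
  rw [fixCard, this, Subgroup.card_top]

theorem fixCard_pow (hexp : ∀ w : M, w ^ p = 1) (hp : p.Prime) (h : C) :
    ∃ k : ℕ, fixCard α h = p ^ k := by
  haveI : Fact p.Prime := ⟨hp⟩
  have hP : IsPGroup p M := fun g => ⟨1, by simpa using hexp g⟩
  exact IsPGroup.iff_card.mp (hP.to_subgroup _)

theorem fixCard_le (h : C) : fixCard α h ≤ fixCard α 1 := by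
  rw [fixCard_one]
  exact Subgroup.card_le_card_group _

theorem card_ker_mul_range (h : C) :
    fixCard α h * Nat.card (moveHom α h).range = Nat.card M := by
  rw [← Subgroup.index_ker, fixCard, Subgroup.card_mul_index]

theorem ker_inf_range (hexp : ∀ w : M, w ^ p = 1) (hcop : (Nat.card C).Coprime p) {h : C} {r : M}
    (h1 : r ∈ (moveHom α h).ker) (h2 : r ∈ (moveHom α h).range) : r = 1 := by
  obtain ⟨w, hw⟩ := h2
  rw [mem_ker_move] at h1
  have hw' : α h w = r * w := by
    rw [← hw]; show α h w = α h w * w⁻¹ * w; rw [inv_mul_cancel_right]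
  have hpow : ∀ i : ℕ, α (h ^ i) w = r ^ i * w := by
    intro i
    induction i with
    | zero => simp
    | succ i ih =>
      rw [pow_succ', map_mul, MulAut.mul_apply, ih, map_mul, map_pow, h1, hw', ← mul_assoc,
        ← pow_succ]
  have h3 : r ^ Nat.card C = 1 := by
    have := hpow (Nat.card C)
    rw [pow_card_eq_one', map_one, MulAut.one_apply] at this
    exact mul_eq_right.mp this.symm
  exact orderOf_eq_one_iff.mp (Nat.eq_one_of_dvd_coprimes hcop
    (orderOf_dvd_of_pow_eq_one h3) (orderOf_dvd_of_pow_eq_one (hexp r)))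

theorem ker_mul_range_bijective (hexp : ∀ w : M, w ^ p = 1) (hcop : (Nat.card C).Coprime p) (h : C) :
    Function.Bijective (fun x : (moveHom α h).ker × (moveHom α h).range => (x.1 : M) * x.2) := by
  haveI := Fintype.ofFinite M
  haveI := Fintype.ofFinite (moveHom α h).ker
  haveI := Fintype.ofFinite (moveHom α h).range
  rw [Fintype.bijective_iff_injective_and_card]
  refine ⟨fun x y hxy => ?_, ?_⟩
  · have h1 : (y.1 : M)⁻¹ * x.1 = (y.2 : M) * (x.2 : M)⁻¹ := by
      have hxy' : (x.1 : M) * x.2 = (y.1 : M) * y.2 := hxy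
      rw [eq_mul_inv_iff_mul_eq, mul_assoc, hxy', inv_mul_cancel_left]
    have h2 : (y.1 : M)⁻¹ * x.1 = 1 := ker_inf_range α hexp hcop
      ((moveHom α h).ker.mul_mem ((moveHom α h).ker.inv_mem y.1.2) x.1.2)
      (h1 ▸ (moveHom α h).range.mul_mem y.2.2 ((moveHom α h).range.inv_mem x.2.2))
    have h3 : x.1 = y.1 := Subtype.ext (inv_mul_eq_one.mp h2).symm
    refine Prod.ext h3 (Subtype.ext ?_)
    have hxy' : (x.1 : M) * x.2 = (y.1 : M) * y.2 := hxy
    rw [h3] at hxy'
    exact mul_left_cancel hxy'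
  · rw [Fintype.card_prod, ← Nat.card_eq_fintype_card, ← Nat.card_eq_fintype_card,
      ← Nat.card_eq_fintype_card]
    exact card_ker_mul_range α h

/-- Fixed points of an invariant subset form a permutation character. -/
theorem isCharacter_fix_count (P : M → Prop) (hP : ∀ (h : C) (w : M), P w → P (α h w)) :
    IsCharacter C (fun h => (Nat.card {w : M // α h w = w ∧ P w} : ℂ)) := by
  letI : MulAction C {w : M // P w} :=
    { smul := fun h w => ⟨α h w, hP h w w.2⟩
      one_smul := fun w => Subtype.ext (by show α (1 : C) (w : M) = w; simp)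
      mul_smul := fun a b w => Subtype.ext (by
        show α (a * b) (w : M) = α a (α b w); rw [map_mul, MulAut.mul_apply]) }
  have := CT.isCharacter_perm (G := C) {w : M // P w}
  convert this using 1
  funext h
  refine congrArg Nat.cast (Nat.card_congr ⟨fun w => ⟨⟨w, w.2.2⟩, Subtype.ext w.2.1⟩,
    fun w => ⟨w.1, congrArg Subtype.val w.2, w.1.2⟩, fun w => rfl, fun w => rfl⟩)

theorem isCharacter_fixCard : IsCharacter C (fun h => (fixCard α h : ℂ)) := by
  convert isCharacter_fix_count α (fun _ => True) (fun _ _ _ => trivial) using 1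
  funext h
  refine congrArg Nat.cast (Nat.card_congr ⟨fun w => ⟨w, (mem_ker_move α).mp w.2, trivial⟩,
    fun w => ⟨w, (mem_ker_move α).mpr w.2.1⟩, fun w => rfl, fun w => rfl⟩)

/-- A module together with its dual contributes the permutation character. -/
theorem hasRoot_fix_sq (hexp : ∀ w : M, w ^ p = 1) (hp : p.Prime) :
    HasRoot C p (fun h => fixCard α h * fixCard α h) :=
  hasRoot_sq hp (IsZbar.of_isCharacter (isCharacter_fixCard α)) (fixCard_pow α hexp hp)
    (fixCard_le α)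

/-- The Gauss sums of an invariant quadratic form. -/
theorem hasRoot_gauss [hp : Fact p.Prime] (hexp : ∀ w : M, w ^ p = 1)
    (hcop : (Nat.card C).Coprime p) (q : M → ZMod p) (b : M → M → ZMod p)
    (hq : ∀ u w, q (u * w) = q u + q w + b u w)
    (hbl : ∀ u u' w, b (u * u') w = b u w + b u' w) (hnd : ∀ u, (∀ w, b u w = 0) → u = 1)
    (hinv : ∀ h u, q (α h u) = q u) : HasRoot C p (fixCard α) := by
  classical
  haveI := Fintype.ofFinite M
  have hpp : p.Prime := hp.out
  haveI : NeZero p := ⟨hpp.ne_zero⟩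
  obtain ⟨ζ, hζ⟩ : ∃ ζ : ℂ, IsPrimitiveRoot ζ p := ⟨_, Complex.isPrimitiveRoot_exp p hpp.ne_zero⟩
  set ψ : AddChar (ZMod p) ℂ := AddChar.zmodChar p ((IsPrimitiveRoot.iff_def ζ p).mp hζ).left
  have hψ : ψ.IsPrimitive := AddChar.zmodChar_primitive_of_primitive_root p hζ
  have hψint : ∀ a, IsIntegral ℤ (ψ a) := fun a => (hζ.isIntegral (NeZero.pos p)).pow _
  have hψrad : ∀ a, Rad p (ψ a - 1) := fun a => rad_sub_one hpp (by
    rw [← AddChar.map_nsmul_eq_pow]; simp)
  have hψcyc : ∀ a, InCyc (ψ a) := fun a => InCyc.of_pow_eq_one hpp.pos (by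
    rw [← AddChar.map_nsmul_eq_pow]; simp)
  have hψc : ∀ a, conj (ψ a) = ψ (-a) := fun a => by
    rw [AddChar.map_neg_eq_inv, Complex.inv_eq_conj (Complex.norm_eq_one_of_pow_eq_one
      (show ψ a ^ p = 1 by rw [← AddChar.map_nsmul_eq_pow]; simp) hpp.ne_zero)]
  have hbs : ∀ u w, b u w = b w u := fun u w => by
    have h1 := hq u w
    rw [mul_comm u w, hq w u] at h1
    linear_combination -h1
  have hb1 : ∀ w, b 1 w = 0 := fun w => by simpa using hbl 1 1 w
  have hq1 : q 1 = 0 := by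
    have := hq 1 1
    rw [one_mul, hb1] at this
    linear_combination -this
  have hbr : ∀ u w w', b u (w * w') = b u w + b u w' := fun u w w' => by
    rw [hbs, hbl, hbs w u, hbs w' u]
  have hbinv : ∀ h u w, b (α h u) (α h w) = b u w := fun h u w => by
    have h1 := hq (α h u) (α h w)
    rw [← map_mul, hinv, hinv, hinv, hq u w] at h1
    linear_combination -h1
  have horth : ∀ (h : C) (f r : M), f ∈ (moveHom α h).ker → r ∈ (moveHom α h).range → b f r = 0 := by
    intro h f r hf hr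
    obtain ⟨w, rfl⟩ := hr
    have h1 : b f ((moveHom α h) w) + b f w = b f (α h w) := by
      rw [← hbr]; congr 1; show α h w * w⁻¹ * w = α h w; rw [inv_mul_cancel_right]
    have h2 : b f (α h w) = b f w := by
      conv_lhs => rw [← (mem_ker_move α).mp hf]
      rw [hbinv]
    linear_combination h1 + h2
  let Γ : C → ℂ := fun h => ∑ u : (moveHom α h).ker, ψ (q u)
  have hsum : ∀ h, Γ h = ∑ t : ZMod p, ψ t * (Nat.card {w : M // α h w = w ∧ q w = t} : ℂ) := by
    intro h
    show ∑ u : (moveHom α h).ker, ψ (q u) = _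
    rw [← Finset.sum_fiberwise Finset.univ (fun u : (moveHom α h).ker => q u)]
    refine Finset.sum_congr rfl fun t _ => ?_
    rw [Finset.sum_congr rfl fun u hu => congrArg ψ (Finset.mem_filter.mp hu).2, Finset.sum_const,
      nsmul_eq_mul, mul_comm]
    congr 1
    norm_cast
    rw [← Fintype.card_subtype, ← Nat.card_eq_fintype_card]
    exact Nat.card_congr ⟨fun w => ⟨w.1, (mem_ker_move α).mp w.1.2, w.2⟩,
      fun w => ⟨⟨w.1, (mem_ker_move α).mpr w.2.1⟩, w.2.2⟩, fun w => rfl, fun w => rfl⟩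
  -- the total sum factors
  have hfac : ∀ h, Γ 1 = Γ h * ∑ r : (moveHom α h).range, ψ (q r) := by
    intro h
    have h1 : Γ 1 = ∑ u : M, ψ (q u) :=
      Fintype.sum_equiv ⟨fun u => u.1, fun u => ⟨u, (mem_ker_move α).mpr (by simp)⟩, fun u => rfl,
        fun u => rfl⟩ _ _ fun u => rfl
    rw [h1, ← (ker_mul_range_bijective α hexp hcop h).sum_comp (fun u => ψ (q u)),
      Fintype.sum_prod_type, Finset.sum_mul]
    refine Finset.sum_congr rfl fun f _ => ?_
    rw [Finset.mul_sum]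
    refine Finset.sum_congr rfl fun r _ => ?_
    rw [hq, horth h f r f.2 r.2, add_zero, AddChar.map_add_eq_mul]
  have hnorm : ∀ h, Γ h * conj (Γ h) = (fixCard α h : ℂ) := by
    intro h
    set F := (moveHom α h).ker
    have hz : ∀ t : F, t ≠ 1 → ∑ w : F, ψ (b t w) = 0 := by
      intro t ht
      obtain ⟨w₀, hw₀⟩ : ∃ w₀ : F, b t w₀ ≠ 0 := by
        by_contra hcon
        push Not at hcon
        refine ht (Subtype.ext (hnd t fun w => ?_))
        obtain ⟨⟨f, r⟩, hfr⟩ := (ker_mul_range_bijective α hexp hcop h).2 w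
        rw [← hfr, hbr, hcon f, horth h t r t.2 r.2, add_zero]
      have h1 : ψ (b t w₀) * ∑ w : F, ψ (b t w) = ∑ w : F, ψ (b t w) := by
        rw [Finset.mul_sum]
        refine Fintype.sum_equiv (Equiv.mulLeft w₀) _ _ fun w => ?_
        rw [← AddChar.map_add_eq_mul, Equiv.coe_mulLeft, Subgroup.coe_mul, hbr]
      have h2 : (ψ (b t w₀) - 1) * ∑ w : F, ψ (b t w) = 0 := by rw [sub_mul, one_mul, h1, sub_self]
      exact (mul_eq_zero.mp h2).resolve_left
        (sub_ne_zero.mpr fun e => hw₀ ((hψ.zmod_char_eq_one_iff p _).mp e))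
    calc Γ h * conj (Γ h) = ∑ w : F, ∑ u : F, ψ (q u) * conj (ψ (q w)) := by
          rw [map_sum, Finset.sum_mul_sum, Finset.sum_comm]
      _ = ∑ w : F, ∑ t : F, ψ (q t) * ψ (b t w) := Finset.sum_congr rfl fun w _ => by
          refine (Fintype.sum_equiv (Equiv.mulRight w) _ _ fun t => ?_).symm
          rw [hψc, ← AddChar.map_add_eq_mul, ← AddChar.map_add_eq_mul, Equiv.coe_mulRight,
            Subgroup.coe_mul, hq]
          congr 1
          ring
      _ = ∑ t : F, ψ (q t) * ∑ w : F, ψ (b t w) := by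
          rw [Finset.sum_comm]; exact Finset.sum_congr rfl fun t _ => (Finset.mul_sum _ _ _).symm
      _ = (fixCard α h : ℂ) := by
          rw [Finset.sum_eq_single (1 : F) (fun t _ ht => by rw [hz t ht, mul_zero])
            (fun h1 => absurd (Finset.mem_univ _) h1), OneMemClass.coe_one, hq1, AddChar.map_zero_eq_one, one_mul]
          simp only [hb1, AddChar.map_zero_eq_one, Finset.sum_const, Finset.card_univ, nsmul_one]
          rw [← Nat.card_eq_fintype_card]
          rfl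
  have hne : ∀ h, Γ h ≠ 0 := fun h h0 => by
    obtain ⟨k, hk⟩ := fixCard_pow α hexp hpp h
    have := hnorm h
    rw [h0, zero_mul, hk] at this
    exact pow_ne_zero k hpp.ne_zero (by exact_mod_cast this.symm)
  have hquot : ∀ h, Γ 1 / Γ h = ∑ r : (moveHom α h).range, ψ (q r) := fun h => by
    rw [hfac h, mul_div_cancel_left₀ _ (hne h)]
  refine ⟨Γ, ?_, hnorm, fun h => ?_, fun h hlt => ?_, fun h => InCyc.sum _ _ fun u _ => hψcyc _,
    fixCard_pow α hexp hpp, fixCard_le α⟩
  · have e : Γ = ∑ t : ZMod p, ψ t • fun h => (Nat.card {w : M // α h w = w ∧ q w = t} : ℂ) := by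
      funext h
      simp [hsum h, Finset.sum_apply]
    rw [e]
    exact IsZbar.sum _ _ fun t _ => (IsZbar.of_isCharacter
      (isCharacter_fix_count α (fun w => q w = t) fun h w hw => by rw [hinv, hw])).smul (hψint t)
  · rw [hquot]
    exact IsIntegral.sum _ fun r _ => hψint _
  · rw [hquot]
    have e : ∑ r : (moveHom α h).range, ψ (q r) =
        (∑ r : (moveHom α h).range, (ψ (q r) - 1)) + (Nat.card (moveHom α h).range : ℂ) := by
      rw [Finset.sum_sub_distrib]; simp [← Nat.card_eq_fintype_card]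
    rw [e]
    refine (Rad.sum _ _ fun r _ => hψrad _).add (Rad.natCast_of_dvd ?_)
    have hP : IsPGroup p M := fun g => ⟨1, by simpa using hexp g⟩
    obtain ⟨k, hk⟩ := IsPGroup.iff_card.mp (hP.to_subgroup (moveHom α h).range)
    rw [hk]
    refine dvd_pow_self p fun hk0 => ?_
    have := card_ker_mul_range α h
    rw [hk, hk0, pow_zero, mul_one] at this
    rw [fixCard_one, ← this] at hlt
    exact lt_irrefl _ hlt

end Action

end Cfsg.Agent.KGV
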