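import Cfsg.Agent.Lib.KGV.Weil

/-!
# A self-dual module has a square root of its fixed point character
-/

set_option autoImplicit false
set_option linter.all false
set_option maxHeartbeats 1000000

namespace Cfsg.Agent.KGV

open Cfsg Cfsg.Agent

universe u

variable {C : Type u} [Group C] [Fintype C] {p : ℕ}

section Basic

variable {U : Type u} [CommGroup U] [Finite U]

/-- Restriction of an action to an invariant subgroup. -/
def resAct (α : C →* MulAut U) (W : Subgroup U) (hW : ∀ h, ∀ w ∈ W, α h w ∈ W) : C →* MulAut W where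
  toFun h :=
    { toFun := fun w => ⟨α h w, hW h w w.2⟩
      invFun := fun w => ⟨α h⁻¹ w, hW h⁻¹ w w.2⟩
      left_inv := fun w => Subtype.ext (by
        show α h⁻¹ (α h w) = w
        rw [← MulAut.mul_apply, ← map_mul, inv_mul_cancel, map_one, MulAut.one_apply])
      right_inv := fun w => Subtype.ext (by
        show α h (α h⁻¹ w) = w
        rw [← MulAut.mul_apply, ← map_mul, mul_inv_cancel, map_one, MulAut.one_apply])
      map_mul' := fun a b => Subtype.ext (by simp) }
  map_one' := by ext w; simp
  map_mul' a b := by ext w; simp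

theorem fixCard_res (α : C →* MulAut U) (W : Subgroup U) (hW : ∀ h, ∀ w ∈ W, α h w ∈ W) (h : C) :
    fixCard (resAct α W hW) h = Nat.card ↥(W ⊓ (moveHom α h).ker) :=
  Nat.card_congr ⟨fun w => ⟨w.1.1, w.1.2, (mem_ker_move α).mpr
      (congrArg Subtype.val ((mem_ker_move (resAct α W hW)).mp w.2))⟩,
    fun w => ⟨⟨w.1, w.2.1⟩, (mem_ker_move (resAct α W hW)).mpr
      (Subtype.ext ((mem_ker_move α).mp w.2.2))⟩, fun w => rfl, fun w => rfl⟩

/-- The number of fixed points grows at most by the index. -/
theorem card_inf_mul_le {H W : Subgroup U} (hHW : H ≤ W) (Z : Subgroup U) :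
    Nat.card ↥(W ⊓ Z) * Nat.card H ≤ Nat.card W * Nat.card ↥(H ⊓ Z) := by
  have key : ∀ {A B : Subgroup U}, A ≤ B → Nat.card B = A.relIndex B * Nat.card A := fun {A B} h => by
    rw [Subgroup.relIndex, ← Nat.card_congr (Subgroup.subgroupOfEquivOfLe h).toEquiv, mul_comm,
      Subgroup.card_mul_index]
  rw [key hHW, key (inf_le_inf_right Z hHW : H ⊓ Z ≤ W ⊓ Z)]
  have h1 : (H ⊓ Z).relIndex (W ⊓ Z) ≤ H.relIndex W := by
    have h2 : H ⊓ Z = H ⊓ (W ⊓ Z) := by rw [← inf_assoc, inf_eq_left.mpr hHW]
    rw [h2, Subgroup.inf_relIndex_right]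
    exact Subgroup.relIndex_le_of_le_right inf_le_left Subgroup.index_ne_zero_of_finite
  calc (H ⊓ Z).relIndex (W ⊓ Z) * Nat.card ↥(H ⊓ Z) * Nat.card H
      ≤ H.relIndex W * Nat.card ↥(H ⊓ Z) * Nat.card H :=
        Nat.mul_le_mul_right _ (Nat.mul_le_mul_right _ h1)
    _ = _ := by ring

/-- A finite abelian group has at most its order many homomorphisms to `ZMod p`. -/
theorem card_hom_le [hp : Fact p.Prime] {A : Type u} [CommGroup A] [Finite A] {T : Type u} [Finite T]
    (F : T → A → ZMod p) (hadd : ∀ t a b, F t (a * b) = F t a + F t b) (hinj : Function.Injective F) :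
    Nat.card T ≤ Nat.card A := by
  classical
  letI := Fintype.ofFinite A
  haveI : NeZero p := ⟨hp.out.ne_zero⟩
  obtain ⟨ζ, hζ⟩ : ∃ ζ : ℂ, IsPrimitiveRoot ζ p := ⟨_, Complex.isPrimitiveRoot_exp p hp.out.ne_zero⟩
  set ψ : AddChar (ZMod p) ℂ := AddChar.zmodChar p ((IsPrimitiveRoot.iff_def ζ p).mp hζ).left
  have hψ : ψ.IsPrimitive := AddChar.zmodChar_primitive_of_primitive_root p hζ
  let lam : T → (A →* ℂˣ) := fun t =>
    { toFun := fun a => (ψ.val_isUnit (F t a)).unit
      map_one' := Units.ext (by
        have h1 : F t 1 = 0 := by simpa using hadd t 1 1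
        simp [h1])
      map_mul' := fun a b => Units.ext (by simp [hadd, AddChar.map_add_eq_mul]) }
  have hI : Function.Injective (fun t => CT.linIrr (lam t)) := by
    intro t t' h
    refine hinj (funext fun a => ?_)
    have h1 : ψ (F t a) = ψ (F t' a) := congrFun (congrArg Subtype.val h) a
    have h2 : ψ (F t a - F t' a) = 1 := by
      rw [sub_eq_add_neg, AddChar.map_add_eq_mul, h1, ← AddChar.map_add_eq_mul, add_neg_cancel,
        AddChar.map_zero_eq_one]
    exact sub_eq_zero.mp ((hψ.zmod_char_eq_one_iff p _).mp h2)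
  refine (Nat.card_le_card_of_injective _ hI).trans ?_
  rw [CT.card_irr_eq_card_conjClasses]
  exact Nat.card_le_card_of_surjective _ ConjClasses.mk_surjective

/-- A nondegenerate form bounds an annihilator. -/
theorem card_annihilator [hp : Fact p.Prime] (β : Bil U p)
    (hnd : ∀ u, (∀ w, β.val u w = 0) → u = 1) (M L : Subgroup U)
    (hL : ∀ l ∈ L, ∀ m ∈ M, β.val l m = 0) : Nat.card L * Nat.card M ≤ Nat.card U := by
  have hwd : ∀ (l : L) (a b : U), (QuotientGroup.leftRel M) a b → β.val l a = β.val l b := by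
    intro l a b hab
    rw [QuotientGroup.leftRel_apply] at hab
    have := β.right (l : U) a (a⁻¹ * b)
    rw [mul_inv_cancel_left, hL l l.2 _ hab, add_zero] at this
    exact this.symm
  let F : L → U ⧸ M → ZMod p := fun l x => Quotient.liftOn x (fun a => β.val l a) (hwd l)
  have h := card_hom_le (p := p) F (fun l x y => by
    induction x using QuotientGroup.induction_on with | _ a =>
    induction y using QuotientGroup.induction_on with | _ b =>
    exact β.right (l : U) a b) (fun l l' he => by
      refine Subtype.ext (mul_inv_eq_one.mp (hnd _ fun w => ?_))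
      have h1 : β.val l w = β.val l' w := congrFun he (QuotientGroup.mk w)
      rw [β.left, β.inv_left, h1, add_neg_cancel])
  calc Nat.card L * Nat.card M ≤ Nat.card (U ⧸ M) * Nat.card M := Nat.mul_le_mul_right _ h
    _ = Nat.card U := (Subgroup.card_eq_card_quotient_mul_card_subgroup M).symm

theorem act_inv_apply (α : C →* MulAut U) (h : C) (u : U) : α h (α h⁻¹ u) = u := by
  rw [← MulAut.mul_apply, ← map_mul, mul_inv_cancel, map_one, MulAut.one_apply]

/-- The product over a set of group elements. -/
noncomputable def avgHom (α : C →* MulAut U) (K : Subgroup C) : U →* U :=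
  letI := Fintype.ofFinite K
  { toFun := fun u => ∏ k : K, α k u
    map_one' := by simp
    map_mul' := fun a b => by simp [Finset.prod_mul_distrib] }

theorem avgHom_conj (α : C →* MulAut U) (K : Subgroup C) [hK : K.Normal] (h : C) (u : U) :
    avgHom α K (α h u) = α h (avgHom α K u) := by
  letI := Fintype.ofFinite K
  show ∏ k : K, α k (α h u) = α h (∏ k : K, α k u)
  rw [map_prod]
  refine Fintype.prod_equiv (MulAut.conjNormal h⁻¹).toEquiv _ _ fun k => ?_
  rw [← MulAut.mul_apply, ← map_mul, ← MulAut.mul_apply, ← map_mul]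
  congr 1
  congr 1
  simp [mul_assoc]

theorem avgHom_fixed (α : C →* MulAut U) (K : Subgroup C) (u : U) (k : K) :
    α k (avgHom α K u) = avgHom α K u := by
  letI := Fintype.ofFinite K
  show α k (∏ j : K, α j u) = ∏ j : K, α j u
  rw [map_prod]
  refine Fintype.prod_equiv (Equiv.mulLeft k) _ _ fun j => ?_
  rw [← MulAut.mul_apply, ← map_mul]
  rfl

theorem avgHom_pow (α : C →* MulAut U) (K : Subgroup C) {u : U} (hu : ∀ k : K, α k u = u) :
    avgHom α K u = u ^ Nat.card K := by
  letI := Fintype.ofFinite K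
  show ∏ k : K, α k u = _
  rw [Finset.prod_congr rfl fun k _ => hu k, Finset.prod_const, Finset.card_univ,
    Nat.card_eq_fintype_card]

theorem avgHom_adjoint (α : C →* MulAut U) (β : Bil U p)
    (hinv : ∀ h u w, β.val (α h u) (α h w) = β.val u w) (K : Subgroup C) (u w : U) :
    β.val (avgHom α K u) w = β.val u (avgHom α K w) := by
  classical
  letI := Fintype.ofFinite K
  have hl : ∀ (s : Finset K) (f : K → U) (x : U), β.val (∏ k ∈ s, f k) x = ∑ k ∈ s, β.val (f k) x := by
    intro s f x
    induction s using Finset.induction_on with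
    | empty => simpa using β.one_left x
    | insert a t hat ih => rw [Finset.prod_insert hat, Finset.sum_insert hat, β.left, ih]
  have hr : ∀ (s : Finset K) (f : K → U) (x : U), β.val x (∏ k ∈ s, f k) = ∑ k ∈ s, β.val x (f k) := by
    intro s f x
    induction s using Finset.induction_on with
    | empty => simpa using β.one_right x
    | insert a t hat ih => rw [Finset.prod_insert hat, Finset.sum_insert hat, β.right, ih]
  show β.val (∏ k : K, α k u) w = β.val u (∏ k : K, α k w)
  rw [hl, hr]
  refine Fintype.sum_equiv (Equiv.inv K) _ _ fun k => ?_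
  conv_lhs => rw [← hinv ((k : C)⁻¹)]
  congr 1
  rw [← MulAut.mul_apply, ← map_mul, inv_mul_cancel, map_one, MulAut.one_apply]

end Basic

/-- An alternating form in characteristic two is the polar form of a quadratic form. -/
theorem exists_quadratic {U : Type u} [CommGroup U] [Finite U] (hexp : ∀ u : U, u ^ 2 = 1)
    (β : Bil U 2) (halt : ∀ u, β.val u u = 0) :
    ∃ q : U → ZMod 2, ∀ u w, q (u * w) = q u + q w + β.val u w := by
  classical
  have hsym : ∀ u w, β.val u w = β.val w u := fun u w => by
    have h := halt (u * w)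
    rw [β.left, β.right, β.right, halt, halt] at h
    have h2 : ∀ a b : ZMod 2, 0 + a + (b + 0) = 0 → a = b := by decide
    exact h2 _ _ h
  obtain ⟨W, ⟨q, hq⟩, hmax⟩ := (Set.toFinite {W : Subgroup U | ∃ q : U → ZMod 2,
    ∀ u ∈ W, ∀ w ∈ W, q (u * w) = q u + q w + β.val u w}).exists_maximal ⟨⊥, fun _ => 0,
      fun u hu w hw => by
        rw [Subgroup.mem_bot] at hu hw
        subst hu; subst hw
        simp [β.one_left]⟩
  by_cases hW : W = ⊤
  · exact ⟨q, fun u w => hq u (hW ▸ Subgroup.mem_top u) w (hW ▸ Subgroup.mem_top w)⟩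
  exfalso
  obtain ⟨e, he⟩ : ∃ e, e ∉ W := by
    by_contra hcon
    push Not at hcon
    exact hW (eq_top_iff.mpr fun u _ => hcon u)
  have hee : e * e = 1 := by rw [← pow_two, hexp]
  let W' : Subgroup U :=
    { carrier := {x | x ∈ W ∨ x * e ∈ W}
      one_mem' := Or.inl W.one_mem
      mul_mem' := fun {a b} ha hb => by
        rcases ha with ha | ha <;> rcases hb with hb | hb
        · exact Or.inl (W.mul_mem ha hb)
        · exact Or.inr (by rw [mul_assoc]; exact W.mul_mem ha hb)
        · exact Or.inr (by rw [mul_right_comm]; exact W.mul_mem ha hb)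
        · refine Or.inl ?_
          have := W.mul_mem ha hb
          rwa [mul_mul_mul_comm, hee, mul_one] at this
      inv_mem' := fun {a} ha => by
        rcases ha with ha | ha
        · exact Or.inl (W.inv_mem ha)
        · refine Or.inr ?_
          rwa [show a⁻¹ = a from inv_eq_of_mul_eq_one_right (by rw [← pow_two, hexp])] }
  have hlt : W < W' := lt_of_le_of_ne (fun x hx => Or.inl hx) fun h =>
    he (h ▸ (Or.inr (by rw [hee]; exact W.one_mem) : e ∈ W'))
  let q' : U → ZMod 2 := fun x => if x ∈ W then q x else q (x * e) + β.val (x * e) e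
  refine hlt.not_ge (hmax ⟨q', fun u hu w hw => ?_⟩ hlt.le)
  have hmem : ∀ x, x ∈ W' → x ∉ W → x * e ∈ W := fun x hx hxW => hx.resolve_left hxW
  have hnot : ∀ x y, x ∈ W → y ∉ W → x * y ∉ W := fun x y hx hy h =>
    hy (by simpa using W.mul_mem (W.inv_mem hx) h)
  by_cases huW : u ∈ W <;> by_cases hwW : w ∈ W
  · simp only [q', if_pos huW, if_pos hwW, if_pos (W.mul_mem huW hwW)]
    exact hq u huW w hwW
  · have hw' := hmem w hw hwW
    simp only [q', if_pos huW, if_neg hwW, if_neg (hnot u w huW hwW)]
    have e1 : β.val u w = β.val u (w * e) + β.val u e := by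
      rw [← β.right, mul_assoc, hee, mul_one]
    rw [mul_assoc, hq u huW _ hw', β.left, e1]
    ring
  · have hu' := hmem u hu huW
    simp only [q', if_neg huW, if_pos hwW, if_neg (fun h => huW (by
      have := W.mul_mem h (W.inv_mem hwW); rwa [mul_inv_cancel_right] at this) : u * w ∉ W)]
    have e1 : β.val u w = β.val (u * e) w + β.val e w := by
      rw [← β.left, mul_assoc, hee, mul_one]
    rw [show u * w * e = u * e * w from mul_right_comm u w e, hq _ hu' w hwW, β.left (u * e) w e, e1, hsym e w]
    ring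
  · have hu' := hmem u hu huW
    have hw' := hmem w hw hwW
    have huw : u * e * (w * e) = u * w := by rw [mul_mul_mul_comm, hee, mul_one]
    have hin : u * w ∈ W := huw ▸ W.mul_mem hu' hw'
    simp only [q', if_neg huW, if_neg hwW, if_pos hin]
    rw [show q (u * w) = q (u * e) + q (w * e) + β.val (u * e) (w * e) from huw ▸ hq _ hu' _ hw']
    have e1 : β.val u w = β.val (u * e) (w * e) + β.val (u * e) e + (β.val e (w * e) + 0) := by
      rw [← halt e, ← β.right, ← β.right, mul_assoc w, hee, mul_one, ← β.left, mul_assoc, hee,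
        mul_one]
    rw [e1, hsym e (w * e)]
    have h2 : ∀ a : ZMod 2, a + a = 0 := by decide
    linear_combination -(h2 (β.val (u * e) e)) - h2 (β.val (w * e) e)

/-- The square root attached to a self-dual module. -/
theorem exists_root [hp : Fact p.Prime] (hcop : (Nat.card C).Coprime p) (n : ℕ) :
    ∀ (U : Type u) [CommGroup U] [Finite U] (α : C →* MulAut U) (β : Bil U p),
      Nat.card U < n → (∀ u : U, u ^ p = 1) → (∀ h u w, β.val (α h u) (α h w) = β.val u w) →
      (∀ u, (∀ w, β.val u w = 0) → u = 1) →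
      ∃ π : C → ℕ, HasRoot C p π ∧ (∀ h, α h ≠ 1 → π h < π 1) ∧
        ∀ h, π 1 * fixCard α h ≤ π h * Nat.card U := by
  classical
  have hpp : p.Prime := hp.out
  induction n with
  | zero => intro U _ _ α β h; exact absurd h (Nat.not_lt_zero _)
  | succ n ih =>
    intro U _ _ α β hn hexp hinv hnd
    have hroot : ∀ u : U, ∀ m : ℕ, m.Coprime p → u ^ m = 1 → u = 1 := fun u m hm h =>
      orderOf_eq_one_iff.mp (Nat.eq_one_of_dvd_coprimes hm
        (orderOf_dvd_of_pow_eq_one h) (orderOf_dvd_of_pow_eq_one (hexp u)))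
    haveI : (⊤ : Subgroup C).Normal := inferInstance
    set E := avgHom α (⊤ : Subgroup C)
    have hfix1 : ∀ u ∈ E.ker, (∀ h, α h u = u) → u = 1 := fun u hu h => by
      have h1 := avgHom_pow α (⊤ : Subgroup C) (u := u) fun k => h k
      rw [MonoidHom.mem_ker] at hu
      rw [Subgroup.card_top] at h1
      exact hroot u _ hcop (h1.symm.trans hu)
    by_cases hEb : E.ker = ⊥
    · -- trivial action
      have htriv : ∀ h, α h = 1 := by
        intro h
        ext u
        have h1 : α h u * u⁻¹ ∈ E.ker := by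
          rw [MonoidHom.mem_ker, map_mul, map_inv, mul_inv_eq_one, avgHom_conj]
          exact avgHom_fixed α ⊤ u ⟨h, Subgroup.mem_top h⟩
        rw [hEb, Subgroup.mem_bot, mul_inv_eq_one] at h1
        simpa using h1
      exact ⟨fun _ => 1, hasRoot_one, fun h hh => absurd (htriv h) hh,
        fun h => Nat.mul_le_mul_left 1 (Subgroup.card_le_card_group _)⟩
    obtain ⟨M, ⟨hMb, hMinv, hME⟩, hMmin⟩ := (Set.toFinite {W : Subgroup U | W ≠ ⊥ ∧
      (∀ h, ∀ w ∈ W, α h w ∈ W) ∧ W ≤ E.ker}).exists_minimal ⟨E.ker, hEb, fun h w hw => by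
        rw [MonoidHom.mem_ker] at hw ⊢
        rw [avgHom_conj, hw, map_one], le_rfl⟩
    -- the kernel on `M`
    let K : Subgroup C :=
      { carrier := {h | ∀ m ∈ M, α h m = m}
        one_mem' := fun m _ => by simp
        mul_mem' := fun {a b} ha hb m hm => by rw [map_mul, MulAut.mul_apply, hb m hm, ha m hm]
        inv_mem' := fun {a} ha m hm => by
          conv_lhs => rw [← ha m hm]
          rw [← MulAut.mul_apply, ← map_mul, inv_mul_cancel, map_one, MulAut.one_apply] }
    haveI hKn : K.Normal := ⟨fun a ha g m hm => by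
      rw [map_mul, map_mul, MulAut.mul_apply, MulAut.mul_apply, ha _ (hMinv g⁻¹ m hm), act_inv_apply]⟩
    have hKtop : K ≠ ⊤ := fun h => hMb ((Subgroup.eq_bot_iff_forall _).mpr fun m hm =>
      hfix1 m (hME hm) fun g => (h.ge (Subgroup.mem_top g)) m hm)
    set E1 := avgHom α K
    have hKcop : (Nat.card K).Coprime p := hcop.coprime_dvd_left (Subgroup.card_subgroup_dvd_card K)
    set U1 := E1.range with hU1
    set U2 := E1.ker with hU2
    have hU2inv : ∀ h, ∀ w ∈ U2, α h w ∈ U2 := fun h w hw => by
      rw [hU2, MonoidHom.mem_ker] at hw ⊢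
      rw [avgHom_conj, hw, map_one]
    have hU1fix : ∀ u ∈ U1, ∀ k : K, α k u = u := by
      rintro u ⟨w, rfl⟩ k
      exact avgHom_fixed α K w k
    obtain ⟨s, hs⟩ := Nat.exists_mul_mod_eq_one_of_coprime hKcop hpp.one_lt
    have hdec : ∀ u : U, (E1 u) ^ s ∈ U1 ∧ ((E1 u) ^ s)⁻¹ * u ∈ U2 := by
      intro u
      have h1 : (E1 u) ^ s ∈ U1 := U1.pow_mem ⟨u, rfl⟩ s
      refine ⟨h1, ?_⟩
      rw [hU2, MonoidHom.mem_ker, map_mul, map_inv, avgHom_pow α K (fun k => hU1fix _ h1 k), ← pow_mul]
      have : (E1 u) ^ (s * Nat.card K) = E1 u := by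
        conv_rhs => rw [← pow_one (E1 u)]
        refine pow_eq_pow_iff_modEq.mpr (Nat.ModEq.of_dvd (orderOf_dvd_of_pow_eq_one (hexp _)) ?_)
        rw [Nat.ModEq, mul_comm, hs.2, Nat.mod_eq_of_lt hpp.one_lt]
      rw [this, inv_mul_cancel]
    have hMfix : ∀ m ∈ M, m ∈ U1 := fun m hm => by
      have h1 := hdec m
      have h2 : E1 m = m ^ Nat.card K := avgHom_pow α K fun k => k.2 m hm
      have h3 : (E1 m) ^ s = m := by
        rw [h2, ← pow_mul]
        conv_rhs => rw [← pow_one m]
        refine pow_eq_pow_iff_modEq.mpr (Nat.ModEq.of_dvd (orderOf_dvd_of_pow_eq_one (hexp _)) ?_)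
        rw [Nat.ModEq, hs.2, Nat.mod_eq_of_lt hpp.one_lt]
      rw [← h3]; exact h1.1
    have hdisj : ∀ u ∈ U1, u ∈ U2 → u = 1 := fun u h1 h2 => by
      rw [hU2, MonoidHom.mem_ker, avgHom_pow α K (fun k => hU1fix u h1 k)] at h2
      exact hroot u _ hKcop h2
    -- the two parts are orthogonal
    have horth : ∀ u ∈ U1, ∀ w ∈ U2, β.val u w = 0 ∧ β.val w u = 0 := by
      rintro _ ⟨x, rfl⟩ w hw
      rw [hU2, MonoidHom.mem_ker] at hw
      refine ⟨by rw [avgHom_adjoint α β hinv, hw, β.one_right], ?_⟩
      rw [← avgHom_adjoint α β hinv, hw, β.one_left]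
    have hnd2 : ∀ u ∈ U2, (∀ w ∈ U2, β.val u w = 0) → u = 1 := fun u hu h => hnd u fun w => by
      obtain ⟨h1, h2⟩ := hdec w
      conv_lhs => rw [← mul_inv_cancel_left ((E1 w) ^ s) w]
      rw [β.right, (horth _ h1 u hu).2, h _ h2, add_zero]
    let β2 : Bil U2 p := ⟨fun a b => β.val a b, fun a b c => β.left _ _ _, fun a b c => β.right _ _ _⟩
    have hU2lt : Nat.card U2 < n := by
      have h1 : U2 ≠ ⊤ := fun h => hMb ((Subgroup.eq_bot_iff_forall _).mpr fun m hm =>
        hdisj m (hMfix m hm) (h ▸ Subgroup.mem_top m))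
      have h2 : Nat.card U2 < Nat.card U := lt_of_le_of_ne (Subgroup.card_le_card_group _)
        fun h => h1 (Subgroup.eq_top_of_card_eq _ h)
      omega
    obtain ⟨π2, hπ2, hlt2, hle2⟩ := ih U2 (resAct α U2 hU2inv) β2 hU2lt
      (fun u => Subtype.ext (hexp u)) (fun h a b => hinv h a b)
      (fun u hu => Subtype.ext (hnd2 u u.2 fun w hw => hu ⟨w, hw⟩))
    -- the part of `M`
    obtain ⟨π1, hπ1, hlt1, hle1⟩ : ∃ π1 : C → ℕ, HasRoot C p π1 ∧ (∀ h, h ∉ K → π1 h < π1 1) ∧
        ∀ h, π1 1 * Nat.card ↥(U1 ⊓ (moveHom α h).ker) ≤ π1 h * Nat.card U1 := by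
      set αM := resAct α M hMinv
      have hexpM : ∀ w : M, w ^ p = 1 := fun w => Subtype.ext (hexp w)
      have hltM : ∀ h, h ∉ K → fixCard αM h < fixCard αM 1 := by
        intro h hh
        refine lt_of_le_of_ne (fixCard_le αM h) fun he => hh fun m hm => ?_
        rw [fixCard_one] at he
        have h1 : (⟨m, hm⟩ : M) ∈ (moveHom αM h).ker :=
          (Subgroup.eq_top_of_card_eq _ he).ge (Subgroup.mem_top _)
        exact congrArg Subtype.val ((mem_ker_move αM).mp h1)
      have hirr : ∀ W : Subgroup U, W ≤ M → (∀ h, ∀ w ∈ W, α h w ∈ W) → W = ⊥ ∨ W = M := by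
        intro W hWM hWinv
        by_contra hcon
        push Not at hcon
        exact hcon.2 (le_antisymm hWM (hMmin ⟨hcon.1, hWinv, hWM.trans hME⟩ hWM))
      have hrad : ∀ (b : Bil U p), (∀ h u w, b.val (α h u) (α h w) = b.val u w) →
          (∀ u ∈ M, (∀ w ∈ M, b.val u w = 0) → u = 1) ∨ ∀ u ∈ M, ∀ w ∈ M, b.val u w = 0 := by
        intro b hb
        let R : Subgroup U :=
          { carrier := {u | u ∈ M ∧ ∀ w ∈ M, b.val u w = 0}
            one_mem' := ⟨M.one_mem, fun w _ => b.one_left w⟩
            mul_mem' := fun {x y} hx hy => ⟨M.mul_mem hx.1 hy.1, fun w hw => by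
              rw [b.left, hx.2 w hw, hy.2 w hw, add_zero]⟩
            inv_mem' := fun {x} hx => ⟨M.inv_mem hx.1, fun w hw => by
              rw [b.inv_left, hx.2 w hw, neg_zero]⟩ }
        rcases hirr R (fun u hu => hu.1) (fun h u hu => ⟨hMinv h u hu.1, fun w hw => by
          rw [← act_inv_apply α h w, hb]; exact hu.2 _ (hMinv h⁻¹ w hw)⟩) with hR | hR
        · exact Or.inl fun u hu h => (Subgroup.eq_bot_iff_forall _).mp hR u ⟨hu, h⟩
        · exact Or.inr fun u hu w hw => (hR.ge hu).2 w hw
      have hfixM : ∀ h, Nat.card ↥(U1 ⊓ (moveHom α h).ker) * Nat.card M ≤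
          Nat.card U1 * fixCard αM h := fun h => by
        rw [fixCard_res]; exact card_inf_mul_le (fun m hm => hMfix m hm) _
      -- when `M` carries a form
      have hform : (∃ u ∈ M, ∃ w ∈ M, β.val u w ≠ 0) → HasRoot C p (fixCard αM) := by
        rintro ⟨u₀, hu₀, w₀, hw₀, hne⟩
        let βM : Bil M p := ⟨fun a b => β.val a b, fun a b c => β.left _ _ _, fun a b c => β.right _ _ _⟩
        have hβinv : ∀ h a b, βM.val (αM h a) (αM h b) = βM.val a b := fun h a b => hinv h a b
        let bs : Bil U p := ⟨fun u w => β.val u w + β.val w u,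
          fun u u' w => by simp only [β.left, β.right]; ring,
          fun u w w' => by simp only [β.left, β.right]; ring⟩
        rcases hrad bs (fun h u w => by simp only [bs, hinv]) with hS | hS
        · refine hasRoot_gauss αM hexpM hcop (fun a => βM.val a a) (fun a b => bs.val a b)
            (fun a b => ?_) (fun a b c => bs.left _ _ _)
            (fun a ha => Subtype.ext (hS a a.2 fun w hw => ha ⟨w, hw⟩)) (fun h a => hβinv h a a)
          show β.val ((a : U) * b) ((a : U) * b) =
            β.val a a + β.val b b + (β.val a b + β.val b a)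
          simp only [β.left, β.right]; ring
        · have hanti : ∀ u ∈ M, ∀ w ∈ M, β.val u w = -β.val w u := fun u hu w hw =>
            eq_neg_of_add_eq_zero_left (hS u hu w hw)
          have hnd' : ∀ u ∈ M, (∀ w ∈ M, β.val u w = 0) → u = 1 :=
            (hrad β hinv).resolve_right fun h => hne (h u₀ hu₀ w₀ hw₀)
          rcases eq_or_ne p 2 with h2 | h2
          · subst h2
            -- the diagonal vanishes
            have halt : ∀ a : M, βM.val a a = 0 := by
              let R : Subgroup U :=
                { carrier := {u | u ∈ M ∧ β.val u u = 0}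
                  one_mem' := ⟨M.one_mem, β.one_left 1⟩
                  mul_mem' := fun {x y} hx hy => ⟨M.mul_mem hx.1 hy.1, by
                    rw [β.left, β.right, β.right, hx.2, hy.2, hanti y hy.1 x hx.1]; ring⟩
                  inv_mem' := fun {x} hx => by
                    have : x⁻¹ = x := inv_eq_of_mul_eq_one_right (by rw [← pow_two, hexp])
                    rw [this]; exact hx }
              rcases hirr R (fun u hu => hu.1) (fun h u hu => ⟨hMinv h u hu.1, by rw [hinv]; exact hu.2⟩)
                with hR | hR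
              · exfalso
                refine hMb ((Subgroup.eq_bot_iff_forall _).mpr fun m hm => hfix1 m (hME hm) fun g => ?_)
                have h3 : β.val (α g m * m) (α g m * m) = 0 := by
                  rw [β.left, β.right, β.right, hinv, hanti m hm _ (hMinv g m hm)]
                  have h4 : ∀ a b : ZMod 2, a + b + (-b + a) = 0 := fun a b => by
                    rw [show a + b + (-b + a) = 2 * a by ring, show (2 : ZMod 2) = 0 from rfl, zero_mul]
                  exact h4 _ _
                have h5 := (Subgroup.eq_bot_iff_forall _).mp hR _ ⟨M.mul_mem (hMinv g m hm) hm, h3⟩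
                have h6 : m⁻¹ = m := inv_eq_of_mul_eq_one_right (by rw [← pow_two, hexp])
                rw [mul_eq_one_iff_eq_inv.mp h5, h6]
              · exact fun a => (hR.ge a.2).2
            obtain ⟨q, hq⟩ := exists_quadratic hexpM βM halt
            refine hasRoot_gauss αM hexpM hcop (fun a => ∑ h : C, q (αM h a)) (fun a b => βM.val a b)
              (fun a b => ?_) (fun a b c => βM.left a b c)
              (fun a ha => Subtype.ext (hnd' a a.2 fun w hw => ha ⟨w, hw⟩)) (fun g a => ?_)
            · simp only [map_mul, hq, hβinv, Finset.sum_add_distrib, Finset.sum_const, Finset.card_univ]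
              congr 1
              have hodd : ((Fintype.card C : ℕ) : ZMod 2) = 1 := by
                rw [← Nat.card_eq_fintype_card, ZMod.natCast_eq_one_iff_odd]
                exact Nat.coprime_two_right.mp hcop
              rw [nsmul_eq_mul, hodd, one_mul]
            · refine Fintype.sum_equiv (Equiv.mulRight g) _ _ fun h => ?_
              rw [Equiv.coe_mulRight, map_mul, MulAut.mul_apply]
          · refine hasRoot_weil αM hexpM hcop βM hβinv fun a ha => Subtype.ext (hnd' a a.2 fun w hw => ?_)
            have h3 : β.val a w = β.val w a := ha ⟨w, hw⟩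
            rw [hanti w hw a a.2] at h3
            have h4 : (2 : ZMod p) * β.val a w = 0 := by linear_combination h3
            refine (mul_eq_zero.mp h4).resolve_left fun h => ?_
            rw [← Nat.cast_two, ZMod.natCast_eq_zero_iff] at h
            exact h2 ((Nat.prime_dvd_prime_iff_eq hpp Nat.prime_two).mp h)
      by_cases hβM : ∃ u ∈ M, ∃ w ∈ M, β.val u w ≠ 0
      · refine ⟨fixCard αM, hform hβM, hltM, fun h => ?_⟩
        rw [fixCard_one, mul_comm (Nat.card M), mul_comm (fixCard αM h)]
        exact hfixM h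
      · push Not at hβM
        refine ⟨fun h => fixCard αM h * fixCard αM h, hasRoot_fix_sq αM hexpM hpp,
          fun h hh => Nat.mul_self_lt_mul_self (hltM h hh), fun h => ?_⟩
        show fixCard αM 1 * fixCard αM 1 * _ ≤ fixCard αM h * fixCard αM h * _
        rw [fixCard_one]
        let L : Subgroup U :=
          { carrier := {u | u ∈ U1 ∧ ∀ m ∈ M, β.val u m = 0}
            one_mem' := ⟨U1.one_mem, fun m _ => β.one_left m⟩
            mul_mem' := fun {x y} hx hy => ⟨U1.mul_mem hx.1 hy.1, fun m hm => by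
              rw [β.left, hx.2 m hm, hy.2 m hm, add_zero]⟩
            inv_mem' := fun {x} hx => ⟨U1.inv_mem hx.1, fun m hm => by
              rw [β.inv_left, hx.2 m hm, neg_zero]⟩ }
        have hML : M ≤ L := fun m hm => ⟨hMfix m hm, fun m' hm' => hβM m hm m' hm'⟩
        set Z := (moveHom α h).ker
        -- the annihilator is small
        have hann : Nat.card L * Nat.card M ≤ Nat.card U1 := by
          let b1 : Bil U1 p := ⟨fun a b => β.val a b, fun a b c => β.left _ _ _, fun a b c => β.right _ _ _⟩
          have hnd1 : ∀ u : U1, (∀ w, b1.val u w = 0) → u = 1 := fun u hu => Subtype.ext (hnd u fun w => by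
            obtain ⟨h1, h2⟩ := hdec w
            conv_lhs => rw [← mul_inv_cancel_left ((E1 w) ^ s) w]
            rw [β.right, (horth _ u.2 _ h2).1, hu ⟨_, h1⟩, add_zero])
          have := card_annihilator b1 hnd1 (M.subgroupOf U1) (L.subgroupOf U1)
            (fun l hl m hm => (Subgroup.mem_subgroupOf.mp hl).2 m (Subgroup.mem_subgroupOf.mp hm))
          rwa [Nat.card_congr (Subgroup.subgroupOfEquivOfLe (fun m hm => hMfix m hm)).toEquiv,
            Nat.card_congr (Subgroup.subgroupOfEquivOfLe (fun u hu => hu.1 : L ≤ U1)).toEquiv] at this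
        -- fixed points of the top section
        have htop : Nat.card ↥(U1 ⊓ Z) ≤ Nat.card ↥(L ⊓ Z) * fixCard αM h := by
          set A := U1 ⊓ Z
          set B := (L ⊓ Z).subgroupOf A
          have hA : Nat.card A = Nat.card (A ⧸ B) * Nat.card B :=
            Subgroup.card_eq_card_quotient_mul_card_subgroup B
          have hB : Nat.card B = Nat.card ↥(L ⊓ Z) := Nat.card_congr (Subgroup.subgroupOfEquivOfLe
            (inf_le_inf_right Z (fun u hu => hu.1 : L ≤ U1))).toEquiv
          rw [hA, hB, mul_comm]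
          refine Nat.mul_le_mul_left _ ?_
          have hwd : ∀ (m : (moveHom αM h).ker) (a b : A), (QuotientGroup.leftRel B) a b →
              β.val (a : U) ((m : M) : U) = β.val (b : U) ((m : M) : U) := by
            intro m a b hab
            rw [QuotientGroup.leftRel_apply, Subgroup.mem_subgroupOf] at hab
            have h1 := β.left (a : U) ((a⁻¹ * b : A) : U) ((m : M) : U)
            rw [hab.1.2 _ (m : M).2, add_zero] at h1
            simpa using h1.symm
          let F : A ⧸ B → (moveHom αM h).ker → ZMod p := fun x m =>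
            Quotient.liftOn x (fun a => β.val (a : U) ((m : M) : U)) (hwd m)
          refine card_hom_le (p := p) F (fun x m m' => ?_) fun x y hxy => ?_
          · induction x using QuotientGroup.induction_on with | _ a =>
            exact β.right _ _ _
          · induction x using QuotientGroup.induction_on with | _ a =>
            induction y using QuotientGroup.induction_on with | _ b =>
            rw [QuotientGroup.eq, Subgroup.mem_subgroupOf]
            refine ⟨⟨(a⁻¹ * b : A).2.1, fun m hm => ?_⟩, (a⁻¹ * b : A).2.2⟩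
            obtain ⟨⟨f, r⟩, hfr⟩ := (ker_mul_range_bijective αM hexpM hcop h).2 ⟨m, hm⟩
            have hfr' : ((f : M) : U) * ((r : M) : U) = m := congrArg Subtype.val hfr
            have hdiff : ∀ z : U, β.val ((a⁻¹ * b : A) : U) z = β.val (b : U) z - β.val (a : U) z := by
              intro z
              simp only [Subgroup.coe_mul, InvMemClass.coe_inv, β.left, β.inv_left]
              ring
            have hf : β.val ((a⁻¹ * b : A) : U) ((f : M) : U) = 0 := by
              rw [hdiff, sub_eq_zero]; exact (congrFun hxy f).symm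
            have hfixed : α h ((a⁻¹ * b : A) : U) = ((a⁻¹ * b : A) : U) :=
              (mem_ker_move α).mp (a⁻¹ * b : A).2.2
            obtain ⟨w, hw⟩ := r.2
            have hr : β.val ((a⁻¹ * b : A) : U) ((r : M) : U) = 0 := by
              rw [← hw]
              show β.val _ (α h (w : U) * (w : U)⁻¹) = 0
              have h1 : β.val ((a⁻¹ * b : A) : U) (α h (w : U) * (w : U)⁻¹) +
                  β.val ((a⁻¹ * b : A) : U) (w : U) = β.val ((a⁻¹ * b : A) : U) (α h (w : U)) := by
                rw [← β.right, inv_mul_cancel_right]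
              have h2 : β.val ((a⁻¹ * b : A) : U) (α h (w : U)) = β.val ((a⁻¹ * b : A) : U) (w : U) := by
                conv_lhs => rw [← hfixed, hinv]
              linear_combination h1 + h2
            rw [← hfr', β.right, hf, hr, add_zero]
        have hLM : Nat.card ↥(L ⊓ Z) * Nat.card M ≤ Nat.card L * fixCard αM h := by
          rw [fixCard_res]; exact card_inf_mul_le hML Z
        calc Nat.card M * Nat.card M * Nat.card ↥(U1 ⊓ Z)
            ≤ Nat.card M * Nat.card M * (Nat.card ↥(L ⊓ Z) * fixCard αM h) := Nat.mul_le_mul_left _ htop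
          _ = Nat.card M * (Nat.card ↥(L ⊓ Z) * Nat.card M) * fixCard αM h := by ring
          _ ≤ Nat.card M * (Nat.card L * fixCard αM h) * fixCard αM h :=
              Nat.mul_le_mul_right _ (Nat.mul_le_mul_left _ hLM)
          _ = fixCard αM h * fixCard αM h * (Nat.card L * Nat.card M) := by ring
          _ ≤ _ := Nat.mul_le_mul_left _ hann
    refine ⟨fun h => π1 h * π2 h, hπ1.mul hpp hπ2, fun h hh => ?_, fun h => ?_⟩
    · obtain ⟨Γ1, hΓ1⟩ := hπ1
      obtain ⟨Γ2, hΓ2⟩ := hπ2
      have hpos : ∀ {π : C → ℕ}, (∀ x, ∃ k : ℕ, π x = p ^ k) → ∀ x, 0 < π x := fun hπ x => by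
        obtain ⟨k, hk⟩ := hπ x
        rw [hk]; exact pow_pos hpp.pos k
      by_cases hK : h ∈ K
      · have h2 : π2 h < π2 1 := by
          refine hlt2 h fun he => hh ?_
          ext u
          obtain ⟨h1, h2⟩ := hdec u
          show α h u = u
          conv_lhs => rw [← mul_inv_cancel_left ((E1 u) ^ s) u]
          rw [map_mul, hU1fix _ h1 ⟨h, hK⟩,
            show α h (((E1 u) ^ s)⁻¹ * u) = ((E1 u) ^ s)⁻¹ * u from
              congrArg Subtype.val (DFunLike.congr_fun he (⟨_, h2⟩ : U2)), mul_inv_cancel_left]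
        calc π1 h * π2 h ≤ π1 1 * π2 h := Nat.mul_le_mul_right _ (hΓ1.le h)
          _ < π1 1 * π2 1 := Nat.mul_lt_mul_of_pos_left h2 (hpos hΓ1.pow 1)
      · calc π1 h * π2 h ≤ π1 h * π2 1 := Nat.mul_le_mul_left _ (hΓ2.le h)
          _ < π1 1 * π2 1 := Nat.mul_lt_mul_of_pos_right (hlt1 h hK) (hpos hΓ2.pow 1)
    · set Z := (moveHom α h).ker
      have hprod : fixCard α h = Nat.card ↥(U1 ⊓ Z) * fixCard (resAct α U2 hU2inv) h := by
        rw [fixCard_res, ← Nat.card_prod]
        refine (Nat.card_congr (Equiv.ofBijective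
          (fun x : ↥(U1 ⊓ Z) × ↥(U2 ⊓ Z) => (⟨(x.1 : U) * x.2, Z.mul_mem x.1.2.2 x.2.2.2⟩ : Z))
          ⟨fun x y hxy => ?_, fun z => ?_⟩)).symm
        · have h1 : (x.1 : U) * x.2 = (y.1 : U) * y.2 := congrArg Subtype.val hxy
          have h2 : (y.1 : U)⁻¹ * x.1 = (y.2 : U) * (x.2 : U)⁻¹ := by
            rw [eq_mul_inv_iff_mul_eq, mul_assoc, h1, inv_mul_cancel_left]
          have h3 := hdisj _ (U1.mul_mem (U1.inv_mem y.1.2.1) x.1.2.1)
            (h2 ▸ U2.mul_mem y.2.2.1 (U2.inv_mem x.2.2.1))
          have h4 : x.1 = y.1 := Subtype.ext (inv_mul_eq_one.mp h3).symm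
          refine Prod.ext h4 (Subtype.ext ?_)
          rw [h4] at h1
          exact mul_left_cancel h1
        · obtain ⟨h1, h2⟩ := hdec z
          have h3 : (E1 (z : U)) ^ s ∈ Z := by
            rw [mem_ker_move, map_pow, ← avgHom_conj, (mem_ker_move α).mp z.2]
          exact ⟨(⟨_, h1, h3⟩, ⟨_, h2, Z.mul_mem (Z.inv_mem h3) z.2⟩),
            Subtype.ext (mul_inv_cancel_left _ _)⟩
      have hcard : Nat.card U1 * Nat.card U2 = Nat.card U := by
        rw [hU1, hU2, ← Subgroup.index_ker, mul_comm, Subgroup.card_mul_index]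
      calc π1 1 * π2 1 * fixCard α h
          = π1 1 * Nat.card ↥(U1 ⊓ Z) * (π2 1 * fixCard (resAct α U2 hU2inv) h) := by rw [hprod]; ring
        _ ≤ π1 h * Nat.card U1 * (π2 h * Nat.card U2) := Nat.mul_le_mul (hle1 h) (hle2 h)
        _ = _ := by rw [← hcard]; ring

end Cfsg.Agent.KGV
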