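import Cfsg.Agent.Lib.KGV.RootForm
import Cfsg.Agent.Lib.OddChar.AbelianQuotient
import Cfsg.Agent.Lib.CT.Chief
import Mathlib.GroupTheory.SemidirectProduct

/-!
# The Weil character of a coprime group of isometries of an alternating form

The faithful character of the extraspecial group extends to the semidirect product; its values
on the complement are square roots of the numbers of fixed points.
-/

set_option autoImplicit false
set_option linter.all false
set_option maxHeartbeats 1000000

namespace Cfsg.Agent.KGV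

open Cfsg Cfsg.Agent
open scoped ComplexConjugate

universe u

variable {C : Type u} [Group C] [Fintype C] {M : Type u} [CommGroup M] [Finite M] {p : ℕ}

/-- A biadditive function with values modulo `p`. -/
structure Bil (M : Type u) [CommGroup M] (p : ℕ) where
  val : M → M → ZMod p
  left : ∀ u u' w, val (u * u') w = val u w + val u' w
  right : ∀ u w w', val u (w * w') = val u w + val u w'

theorem Bil.one_left (K : Bil M p) (w : M) : K.val 1 w = 0 := by simpa using K.left 1 1 w

theorem Bil.one_right (K : Bil M p) (w : M) : K.val w 1 = 0 := by simpa using K.right w 1 1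

theorem Bil.inv_left (K : Bil M p) (u w : M) : K.val u⁻¹ w = -K.val u w := by
  have := K.left u⁻¹ u w
  rw [inv_mul_cancel, K.one_left] at this
  linear_combination -this

/-- The central extension with cocycle `K`. -/
@[ext]
structure WE (K : Bil M p) where
  m : M
  z : ZMod p

namespace WE

variable {K : Bil M p}

instance : Mul (WE K) := ⟨fun x y => ⟨x.m * y.m, x.z + y.z + K.val x.m y.m⟩⟩
instance : One (WE K) := ⟨⟨1, 0⟩⟩
instance : Inv (WE K) := ⟨fun x => ⟨x.m⁻¹, -x.z + K.val x.m x.m⟩⟩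

@[simp] theorem mul_m (x y : WE K) : (x * y).m = x.m * y.m := rfl
@[simp] theorem mul_z (x y : WE K) : (x * y).z = x.z + y.z + K.val x.m y.m := rfl
@[simp] theorem one_m : (1 : WE K).m = 1 := rfl
@[simp] theorem one_z : (1 : WE K).z = 0 := rfl
@[simp] theorem inv_m (x : WE K) : x⁻¹.m = x.m⁻¹ := rfl
@[simp] theorem inv_z (x : WE K) : x⁻¹.z = -x.z + K.val x.m x.m := rfl

instance : Group (WE K) where
  mul_assoc x y z := by
    ext
    · simp [mul_assoc]
    · simp [K.left, K.right]; ring
  one_mul x := by ext <;> simp [K.one_left]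
  mul_one x := by ext <;> simp [K.one_right]
  inv_mul_cancel x := by ext <;> simp [K.inv_left]

/-- Coordinates. -/
def equivProd : WE K ≃ M × ZMod p where
  toFun x := (x.m, x.z)
  invFun t := ⟨t.1, t.2⟩
  left_inv x := rfl
  right_inv t := rfl

instance [NeZero p] : Finite (WE K) := Finite.of_equiv _ equivProd.symm

/-- The action of isometries. -/
def act (α : C →* MulAut M) (hinv : ∀ h u w, K.val (α h u) (α h w) = K.val u w) :
    C →* MulAut (WE K) where
  toFun h :=
    { toFun := fun x => ⟨α h x.m, x.z⟩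
      invFun := fun x => ⟨(α h).symm x.m, x.z⟩
      left_inv := fun x => WE.ext (by simp) rfl
      right_inv := fun x => WE.ext (by simp) rfl
      map_mul' := fun x y => WE.ext (by simp) (by simp [hinv]) }
  map_one' := by ext x <;> simp
  map_mul' a b := by ext x <;> simp

end WE

open WE in
/-- The Weil character gives a square root of the fixed point character. -/
theorem hasRoot_weil [hp : Fact p.Prime] (α : C →* MulAut M) (hexp : ∀ w : M, w ^ p = 1)
    (hcop : (Nat.card C).Coprime p) (K : Bil M p)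
    (hinv : ∀ h u w, K.val (α h u) (α h w) = K.val u w)
    (hnd : ∀ u, (∀ w, K.val u w = K.val w u) → u = 1) : HasRoot C p (fixCard α) := by
  classical
  have hpp : p.Prime := hp.out
  haveI : NeZero p := ⟨hpp.ne_zero⟩
  haveI := Fintype.ofFinite M
  letI : Fintype (WE K) := Fintype.ofFinite _
  have hcardE : Nat.card (WE K) = p * Nat.card M := by
    rw [Nat.card_congr equivProd, Nat.card_prod, Nat.card_zmod, mul_comm]
  -- the faithful character
  set z₀ : WE K := ⟨1, 1⟩ with hz₀
  have hzc : ∀ a : ZMod p, (⟨1, a⟩ : WE K) ∈ Subgroup.center (WE K) := fun a =>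
    Subgroup.mem_center_iff.mpr fun g => WE.ext (by simp)
      (by simp [K.one_left, K.one_right]; ring)
  obtain ⟨χ, hχ⟩ : ∃ χ : IrrCharacter (WE K), (χ : WE K → ℂ) z₀ ≠ (χ : WE K → ℂ) 1 := by
    by_contra hcon
    push Not at hcon
    have hne : ¬ IsConj (1 : WE K) z₀ := fun h => by
      have h1 := congrArg WE.z (isConj_one_right.mp h)
      simp [hz₀] at h1
    have h1 := CT.column_orthogonality (1 : WE K) z₀
    rw [if_neg hne] at h1
    simp only [hcon] at h1
    have h2 := CT.column_orthogonality (1 : WE K) (1 : WE K)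
    rw [if_pos (IsConj.refl _), h1] at h2
    exact Nat.cast_ne_zero.mpr Nat.card_pos.ne' h2.symm
  obtain ⟨d, ρ₀, hρ₀, hρχ⟩ := χ.2
  haveI := hρ₀
  haveI := ((CT.isIrreducible_iff ρ₀).mp hρ₀).1
  obtain ⟨ω, hω, -⟩ := CT.central_scalar ρ₀ (hzc 1)
  have hd : (χ : WE K → ℂ) 1 = (d : ℂ) := by
    rw [← hρχ, Representation.char_one, Module.finrank_fin_fun]
  have hd0 : d ≠ 0 := by
    have := CT.finrank_pos_of_irreducible ρ₀
    rw [Module.finrank_fin_fun] at this
    omega
  have hpowz : ∀ i : ℕ, z₀ ^ i = ⟨1, (i : ZMod p)⟩ := by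
    intro i
    induction i with
    | zero => ext <;> simp
    | succ i ih => rw [pow_succ, ih]; ext <;> simp [hz₀, K.one_left]
  have hpow : ∀ i : ℕ, ρ₀ (z₀ ^ i) = ω ^ i • (1 : Module.End ℂ (Fin d → ℂ)) := by
    intro i
    induction i with
    | zero => simp
    | succ i ih =>
      rw [pow_succ', map_mul, ih, hω, smul_mul_smul_comm, ← pow_succ']
      rfl
  have hωp : ω ^ p = 1 := by
    have h1 := hpow p
    rw [hpowz, ZMod.natCast_self, show (⟨1, 0⟩ : WE K) = 1 from rfl, map_one] at h1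
    obtain ⟨x, hx⟩ := exists_ne (0 : Fin d → ℂ)
    have h2 := LinearMap.congr_fun h1 x
    simp only [Module.End.one_apply, LinearMap.smul_apply] at h2
    have h3 : (ω ^ p - 1) • x = 0 := by rw [sub_smul, one_smul, ← h2, sub_self]
    exact sub_eq_zero.mp ((smul_eq_zero.mp h3).resolve_right hx)
  have hω1 : ω ≠ 1 := by
    intro h
    refine hχ ?_
    rw [← hρχ]
    show LinearMap.trace ℂ _ (ρ₀ z₀) = LinearMap.trace ℂ _ (ρ₀ 1)
    rw [show ρ₀ z₀ = ω • LinearMap.id from hω, h, one_smul, map_one]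
    rfl
  have hωprim : IsPrimitiveRoot ω p := by
    rw [IsPrimitiveRoot.iff_orderOf]
    exact orderOf_eq_prime hωp hω1
  set ψ : AddChar (ZMod p) ℂ := AddChar.zmodChar p hωp with hψdef
  have hψint : ∀ a, IsIntegral ℤ (ψ a) := fun a => (hωprim.isIntegral (NeZero.pos p)).pow _
  have hψrad : ∀ a, Rad p (ψ a - 1) := fun a => rad_sub_one hpp (by
    rw [← AddChar.map_nsmul_eq_pow]; simp)
  have hψ1 : ∀ a, ψ a = 1 → a = 0 := fun a h => by
    rw [hψdef, AddChar.zmodChar_apply] at h
    exact (ZMod.val_eq_zero a).mp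
      (hωprim.pow_inj (ZMod.val_lt a) hpp.pos (h.trans (pow_zero ω).symm))
  have hcent : ∀ (g : WE K) (a : ZMod p), (χ : WE K → ℂ) (g * ⟨1, a⟩) = ψ a * (χ : WE K → ℂ) g := by
    intro g a
    rw [← hρχ, ← ZMod.natCast_zmod_val a, ← hpowz]
    show LinearMap.trace ℂ _ (ρ₀ (g * z₀ ^ a.val)) = _ * LinearMap.trace ℂ _ (ρ₀ g)
    rw [map_mul, hpow, mul_smul_comm, mul_one, map_smul, smul_eq_mul, ZMod.natCast_zmod_val]
    rfl
  have hvan : ∀ g : WE K, g.m ≠ 1 → (χ : WE K → ℂ) g = 0 := by
    intro g hg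
    obtain ⟨w, hw⟩ : ∃ w, K.val g.m w ≠ K.val w g.m := by
      by_contra hcon
      push Not at hcon
      exact hg (hnd _ hcon)
    have he : (⟨w, 0⟩ : WE K) * g * (⟨w, 0⟩ : WE K)⁻¹ = g * ⟨1, K.val w g.m - K.val g.m w⟩ := by
      rw [mul_inv_eq_iff_eq_mul]
      ext
      · simp [mul_comm]
      · simp [K.one_left, K.one_right]; ring
    have h1 := (CT.isClassFunction_of_isIrr χ.2) g ⟨w, 0⟩
    rw [he, hcent] at h1
    have h2 : (ψ (K.val w g.m - K.val g.m w) - 1) * (χ : WE K → ℂ) g = 0 := by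
      rw [sub_mul, one_mul, h1, sub_self]
    exact (mul_eq_zero.mp h2).resolve_left
      (sub_ne_zero.mpr fun e => hw (sub_eq_zero.mp (hψ1 _ e)).symm)
  have hθ : ∀ g : WE K, (χ : WE K → ℂ) g = if g.m = 1 then (d : ℂ) * ψ g.z else 0 := by
    intro g
    split_ifs with h
    · have e : g = 1 * ⟨1, g.z⟩ := by rw [one_mul]; exact WE.ext h rfl
      conv_lhs => rw [e, hcent, hd]
      ring
    · exact hvan g h
  have hψn : ∀ t, ψ t * conj (ψ t) = 1 := fun t => by
    rw [Complex.mul_conj', Complex.norm_eq_one_of_pow_eq_one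
      (show ψ t ^ p = 1 by rw [← AddChar.map_nsmul_eq_pow]; simp) hpp.ne_zero]
    simp
  have hd2 : d * d = Nat.card M := by
    have h1 := CT.classInner_self_eq_sum (χ : WE K → ℂ)
    rw [CT.irr_inner_self χ.2, mul_one, ← equivProd.symm.sum_comp, Fintype.sum_prod_type,
      Finset.sum_eq_single (1 : M) (fun u _ hu => Finset.sum_eq_zero fun a _ => by
        rw [hθ, if_neg (show ¬ (equivProd.symm (u, a)).m = 1 from hu), zero_mul])
        (fun h => absurd (Finset.mem_univ _) h),
      Finset.sum_congr rfl (g := fun _ => (d : ℂ) * d) (fun a _ => by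
        rw [hθ, if_pos (show (equivProd.symm ((1 : M), a) : WE K).m = 1 from rfl), map_mul, map_natCast]
        show (d : ℂ) * ψ a * ((d : ℂ) * conj (ψ a)) = _
        linear_combination ((d : ℂ) * d) * hψn a),
      Finset.sum_const, Finset.card_univ, ZMod.card, nsmul_eq_mul, hcardE] at h1
    push_cast at h1
    exact_mod_cast (mul_left_cancel₀ (Nat.cast_ne_zero.mpr hpp.ne_zero) h1).symm
  -- the extension
  let φ : C →* MulAut (WE K) := WE.act α hinv
  haveI : Finite (WE K ⋊[φ] C) := Finite.of_equiv _ SemidirectProduct.equivProd.symm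
  letI : Fintype (WE K ⋊[φ] C) := Fintype.ofFinite _
  set N := (SemidirectProduct.inl : WE K →* WE K ⋊[φ] C).range with hN
  haveI : N.Normal := by rw [hN, SemidirectProduct.range_inl_eq_ker_rightHom]; infer_instance
  haveI := Fintype.ofFinite N
  let eN : WE K ≃* N := MonoidHom.ofInjective SemidirectProduct.inl_injective
  have hindex : N.index = Nat.card C := by
    rw [hN, SemidirectProduct.range_inl_eq_ker_rightHom, Subgroup.index_ker,
      MonoidHom.range_eq_top.mpr SemidirectProduct.rightHom_surjective, Subgroup.card_top]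
  have hcopN : (Nat.card N).Coprime N.index := by
    rw [← Nat.card_congr eN.toEquiv, hindex, hcardE]
    have hP : IsPGroup p M := fun g => ⟨1, by simpa using hexp g⟩
    obtain ⟨k, hk⟩ := IsPGroup.iff_card.mp hP
    rw [hk, ← pow_succ']
    exact Nat.Coprime.pow_left _ hcop.symm
  have hθ' : IsIrrCharacter N (fun x => (χ : WE K → ℂ) (eN.symm x)) :=
    CT.isIrrCharacter_comp eN.symm.toMonoidHom eN.symm.surjective χ.2
  have hinvθ : ∀ x, CT.conjFun N x (fun x => (χ : WE K → ℂ) (eN.symm x)) =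
      (fun x => (χ : WE K → ℂ) (eN.symm x)) := by
    intro x
    funext n
    obtain ⟨e, rfl⟩ := eN.surjective n
    show (χ : WE K → ℂ) (eN.symm ⟨x * (eN e : WE K ⋊[φ] C) * x⁻¹, _⟩) = _
    have hx : x * (SemidirectProduct.inl e) * x⁻¹ =
        SemidirectProduct.inl (x.left * φ x.right e * x.left⁻¹) := by
      conv_lhs => rw [← SemidirectProduct.inl_left_mul_inr_right x]
      rw [map_mul, map_mul, map_inv, SemidirectProduct.inl_aut]
      simp only [map_inv]
      group
    have h1 : (⟨x * (eN e : WE K ⋊[φ] C) * x⁻¹,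
        (inferInstance : N.Normal).conj_mem _ (eN e).2 x⟩ : N) =
        eN (x.left * φ x.right e * x.left⁻¹) := Subtype.ext hx
    rw [h1, eN.symm_apply_apply, eN.symm_apply_apply]
    rw [(CT.isClassFunction_of_isIrr χ.2) _ _, hθ, hθ]
    refine if_congr ?_ rfl rfl
    show α x.right e.m = 1 ↔ e.m = 1
    exact map_eq_one_iff _ (α x.right).injective
  obtain ⟨Ψ, hΨ, hres⟩ := OddChar.exists_extension_coprime N hθ' hinvθ hcopN
  obtain ⟨D, ρ, hρ, hρΨ⟩ := hΨ
  have hres' : ∀ e : WE K, Ψ (SemidirectProduct.inl e) = (χ : WE K → ℂ) e := by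
    intro e
    have := congrFun hres (eN e)
    simp only [MulEquiv.symm_apply_apply] at this
    exact this
  let ρE : Representation ℂ (WE K) (Fin D → ℂ) := ρ.comp SemidirectProduct.inl
  have hρE : ρE.character = (χ : WE K → ℂ) := by
    funext e
    rw [← hres', ← hρΨ]
    rfl
  haveI : ρE.IsIrreducible := CT.isIrreducible_of_isIrrCharacter ρE (hρE ▸ χ.2)
  have hDd : D = d := by
    have h1 : ρE.character 1 = (d : ℂ) := by rw [hρE, hd]
    rw [Representation.char_one, Module.finrank_fin_fun] at h1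
    exact_mod_cast h1
  subst hDd
  have hdC : (D : ℂ) ≠ 0 := Nat.cast_ne_zero.mpr hd0
  let tr : Module.End ℂ (Fin D → ℂ) →ₗ[ℂ] ℂ := LinearMap.trace ℂ _
  have htr : ∀ g, tr (ρ g) = Ψ g := fun g => congrFun hρΨ g
  let il : WE K →* WE K ⋊[φ] C := SemidirectProduct.inl
  let Γ : C → ℂ := fun h => Ψ (SemidirectProduct.inr h)
  have hΓchar : IsCharacter C Γ := CT.isCharacter_comp SemidirectProduct.inr ⟨D, ρ, hρΨ⟩
  have hΓinv : ∀ h, Γ h⁻¹ = conj (Γ h) := fun h => CT.char_inv_eq_conj hΓchar h
  have hΓ1 : Γ 1 = (D : ℂ) := by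
    show Ψ (SemidirectProduct.inr 1) = _
    rw [map_one, ← map_one il, hres', hd]
  -- sums over conjugates are scalar
  have hscal : ∀ g : WE K ⋊[φ] C, ∑ e : WE K, ρ (il e * g * (il e)⁻¹) =
      ((Nat.card (WE K) : ℂ) * Ψ g / (D : ℂ)) • (1 : Module.End ℂ (Fin D → ℂ)) := by
    intro g
    have hcomm : ∀ x : WE K, (∑ e : WE K, ρ (il e * g * (il e)⁻¹)) * ρE x =
        ρE x * ∑ e : WE K, ρ (il e * g * (il e)⁻¹) := by
      intro x
      rw [Finset.sum_mul, Finset.mul_sum]
      refine (Fintype.sum_equiv (Equiv.mulLeft x) _ _ fun e => ?_).symm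
      show ρ (il x) * ρ (il e * g * (il e)⁻¹) = ρ (il (x * e) * g * (il (x * e))⁻¹) * ρ (il x)
      rw [← map_mul, ← map_mul, map_mul il]
      congr 1
      group
    have h1 := CT.eq_scalar_of_commute ρE _ hcomm
    rw [Module.finrank_fin_fun, map_sum, Finset.sum_congr rfl (g := fun _ => Ψ g) (fun e _ => by
      show tr (ρ (il e * g * (il e)⁻¹)) = Ψ g
      rw [htr]
      exact CT.isClassFunction_of_isCharacter ⟨D, ρ, hρΨ⟩ g (il e)), Finset.sum_const,
      Finset.card_univ, nsmul_eq_mul, ← Nat.card_eq_fintype_card] at h1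
    exact h1
  -- the displacement map and its image
  let f : C → WE K → WE K := fun h e => e * φ h e⁻¹
  let R : C → Finset (WE K) := fun h => Finset.univ.image (f h)
  let S : C → Module.End ℂ (Fin D → ℂ) := fun h => ∑ r ∈ R h, ρ (il r)
  let S' : C → Module.End ℂ (Fin D → ℂ) := fun h => ∑ r ∈ R h, ρ (il r⁻¹)
  let F : C → ℕ := fixCard α
  have hF0 : ∀ h, (F h : ℂ) ≠ 0 := fun h => by
    obtain ⟨k, hk⟩ := fixCard_pow α hexp hpp h
    rw [show F h = p ^ k from hk]
    exact_mod_cast pow_ne_zero k hpp.ne_zero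
  have hfix : ∀ (h : C) (t : WE K), φ h t = t ↔ α h t.m = t.m := fun h t =>
    ⟨fun e => congrArg WE.m e, fun e => WE.ext e rfl⟩
  have hfib : ∀ h, ∀ r ∈ R h, (Finset.univ.filter fun e => f h e = r).card = F h * p := by
    intro h r hr
    obtain ⟨e₀, -, rfl⟩ := Finset.mem_image.mp hr
    have hiff : ∀ t, f h (e₀ * t) = f h e₀ ↔ φ h t = t := fun t => by
      show e₀ * t * φ h (e₀ * t)⁻¹ = e₀ * φ h e₀⁻¹ ↔ _
      rw [mul_inv_rev, map_mul, map_inv (φ h) t, mul_assoc, mul_right_inj, ← mul_assoc,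
        mul_eq_right, mul_inv_eq_one]
      exact eq_comm
    rw [← Fintype.card_subtype, ← Nat.card_eq_fintype_card,
      ← Nat.card_congr (α := {t : WE K // φ h t = t}) (β := {e // f h e = f h e₀})
        ⟨fun t => ⟨e₀ * t, (hiff t).mpr t.2⟩, fun e => ⟨e₀⁻¹ * e, (hiff _).mp (by
          rw [mul_inv_cancel_left]; exact e.2)⟩, fun t => Subtype.ext (inv_mul_cancel_left _ _),
          fun e => Subtype.ext (mul_inv_cancel_left _ _)⟩,
      Nat.card_congr (α := {t : WE K // φ h t = t}) (β := (moveHom α h).ker × ZMod p)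
        ⟨fun t => (⟨t.1.m, (mem_ker_move α).mpr ((hfix h t).mp t.2)⟩, t.1.z),
          fun x => ⟨⟨x.1, x.2⟩, (hfix h _).mpr ((mem_ker_move α).mp x.1.2)⟩,
          fun t => rfl, fun x => rfl⟩, Nat.card_prod, Nat.card_zmod]
    rfl
  have hinj : ∀ h, ∀ r ∈ R h, ∀ r' ∈ R h, r.m = r'.m → r = r' := by
    intro h r hr r' hr' hm
    obtain ⟨e, -, rfl⟩ := Finset.mem_image.mp hr
    obtain ⟨e', -, rfl⟩ := Finset.mem_image.mp hr'
    have h1 : e.m * α h e.m⁻¹ = e'.m * α h e'.m⁻¹ := hm
    have h4 : (e'.m⁻¹ * e.m) * α h (e'.m⁻¹ * e.m)⁻¹ = 1 := by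
      rw [mul_inv, inv_inv, map_mul, mul_mul_mul_comm, h1, mul_mul_mul_comm, inv_mul_cancel,
        ← map_mul, mul_inv_cancel, map_one, one_mul]
    have h2 : α h (e'⁻¹ * e).m = (e'⁻¹ * e).m := by
      rw [map_inv] at h4
      exact (mul_inv_eq_one.mp h4).symm
    have h3 : φ h (e'⁻¹ * e) = e'⁻¹ * e := (hfix h _).mpr h2
    show e * φ h e⁻¹ = e' * φ h e'⁻¹
    conv_lhs => rw [show e = e' * (e'⁻¹ * e) by group, mul_inv_rev, map_mul, map_inv (φ h) (e'⁻¹ * e), h3]
    group
  have hcardR : ∀ h, (R h).card * F h = Nat.card M := by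
    intro h
    have h1 : Fintype.card (WE K) = ∑ r ∈ R h, (Finset.univ.filter fun e => f h e = r).card :=
      Finset.card_eq_sum_card_image (f h) Finset.univ
    rw [Finset.sum_congr rfl (hfib h), Finset.sum_const, smul_eq_mul, ← Nat.card_eq_fintype_card,
      hcardE, ← mul_assoc, mul_comm p] at h1
    exact (Nat.eq_of_mul_eq_mul_right hpp.pos h1).symm
  have hsumf : ∀ h (G : WE K → Module.End ℂ (Fin D → ℂ)),
      ∑ e, G (f h e) = ((F h * p : ℕ) : ℂ) • ∑ r ∈ R h, G r := by
    intro h G
    rw [Finset.smul_sum, Finset.sum_comp G (f h)]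
    exact Finset.sum_congr rfl fun r hr => by rw [hfib h r hr, Nat.cast_smul_eq_nsmul]
  let μ : C → ℂ := fun h => (D : ℂ) * Γ h / (F h : ℂ)
  have hμ : ∀ h (T : Module.End ℂ (Fin D → ℂ)) (c : ℂ),
      ((F h * p : ℕ) : ℂ) • T = ((Nat.card (WE K) : ℂ) * c / (D : ℂ)) • 1 →
      T = ((D : ℂ) * c / (F h : ℂ)) • 1 := by
    intro h T c hT
    have hn : ((F h * p : ℕ) : ℂ) ≠ 0 := by
      push_cast; exact mul_ne_zero (hF0 h) (Nat.cast_ne_zero.mpr hpp.ne_zero)
    refine smul_right_injective _ hn ?_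
    show ((F h * p : ℕ) : ℂ) • T = ((F h * p : ℕ) : ℂ) • ((D : ℂ) * c / (F h : ℂ)) • (1 : Module.End ℂ (Fin D → ℂ))
    rw [hT, smul_smul]
    congr 1
    rw [hcardE, ← hd2]
    have := hF0 h
    push_cast
    field_simp
  have hS : ∀ h, S h * ρ (SemidirectProduct.inr h) = μ h • 1 := by
    intro h
    refine hμ h _ (Γ h) ?_
    have h1 := hscal (SemidirectProduct.inr h)
    rw [Finset.sum_congr rfl (g := fun e => ρ (il (f h e)) * ρ (SemidirectProduct.inr h)) (fun e _ => by
      rw [← map_mul]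
      congr 1
      show _ = il (e * φ h e⁻¹) * _
      rw [map_mul, SemidirectProduct.inl_aut]
      simp [il, mul_assoc]), hsumf h (fun r => ρ (il r) * ρ (SemidirectProduct.inr h)),
      ← Finset.sum_mul] at h1
    exact h1
  have hS' : ∀ h, ρ (SemidirectProduct.inr h⁻¹) * S' h = conj (μ h) • 1 := by
    intro h
    have e : conj (μ h) = (D : ℂ) * Γ h⁻¹ / (F h : ℂ) := by
      simp [μ, hΓinv]
    rw [e]
    refine hμ h _ (Γ h⁻¹) ?_
    have h1 := hscal (SemidirectProduct.inr h⁻¹)
    rw [Finset.sum_congr rfl (g := fun e => ρ (SemidirectProduct.inr h⁻¹) * ρ (il (f h e)⁻¹)) (fun e _ => by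
      rw [← map_mul]
      congr 1
      show _ = _ * il (e * φ h e⁻¹)⁻¹
      rw [mul_inv_rev, map_inv (φ h), inv_inv, map_mul, SemidirectProduct.inl_aut]
      simp [il, map_inv, mul_assoc]), hsumf h (fun r => ρ (SemidirectProduct.inr h⁻¹) * ρ (il r⁻¹)),
      ← Finset.mul_sum] at h1
    exact h1
  have hnorm : ∀ h, Γ h * conj (Γ h) = (F h : ℂ) := by
    intro h
    have h1 : S h * S' h = (μ h * conj (μ h)) • 1 := by
      calc S h * S' h = (S h * ρ (SemidirectProduct.inr h)) * (ρ (SemidirectProduct.inr h⁻¹) * S' h) := by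
            rw [mul_assoc, ← mul_assoc (ρ _) (ρ _), ← map_mul, map_inv, mul_inv_cancel, map_one, one_mul]
        _ = _ := by rw [hS, hS', smul_mul_smul_comm, one_mul]
    have h2 : tr (S h * S' h) = (D : ℂ) * (R h).card := by
      rw [Finset.sum_mul_sum, map_sum, mul_comm, ← nsmul_eq_mul, ← Finset.sum_const]
      refine Finset.sum_congr rfl fun r hr => ?_
      rw [map_sum, Finset.sum_eq_single r (fun r' hr' hne => ?_) (fun h => absurd hr h)]
      · rw [← map_mul, ← map_mul, mul_inv_cancel, map_one, map_one]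
        show LinearMap.trace ℂ _ (1 : Module.End ℂ (Fin D → ℂ)) = _
        rw [Module.End.one_eq_id, LinearMap.trace_id, Module.finrank_fin_fun]
      · rw [← map_mul, ← map_mul, htr, hres', hθ, if_neg]
        intro h3
        exact hne (hinj h r' hr' r hr (mul_inv_eq_one.mp h3).symm)
    rw [h1, map_smul, show tr 1 = (D : ℂ) from by
      show LinearMap.trace ℂ _ (1 : Module.End ℂ (Fin D → ℂ)) = _
      rw [Module.End.one_eq_id, LinearMap.trace_id, Module.finrank_fin_fun], smul_eq_mul] at h2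
    have h3 : μ h * conj (μ h) = ((R h).card : ℂ) := by
      rw [mul_comm] at h2; exact mul_left_cancel₀ hdC h2
    simp only [μ, map_div₀, map_mul, map_natCast] at h3
    have h4 : ((R h).card : ℂ) * (F h : ℂ) = (D : ℂ) * D := by exact_mod_cast (hcardR h).trans hd2.symm
    have h5 := hF0 h
    field_simp at h3
    refine mul_left_cancel₀ (mul_ne_zero hdC hdC) ?_
    linear_combination h3 + (F h : ℂ) * h4
  -- powers of the sum
  have hpowint : ∀ h (k : ℕ) (x : WE K), IsIntegral ℤ (tr (S h ^ k * ρ (il x)) / (D : ℂ)) := by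
    intro h k
    induction k with
    | zero =>
      intro x
      rw [pow_zero, one_mul, htr, hres', hθ]
      split_ifs
      · rw [mul_div_cancel_left₀ _ hdC]; exact hψint _
      · rw [zero_div]; exact isIntegral_zero
    | succ k ih =>
      intro x
      rw [pow_succ, mul_assoc, Finset.sum_mul, Finset.mul_sum, map_sum, Finset.sum_div]
      refine IsIntegral.sum _ fun r _ => ?_
      rw [← map_mul, ← map_mul]
      exact ih _
  have hpowrad : ∀ h, F h < Nat.card M → ∀ (k : ℕ) (x : WE K),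
      Rad p (tr (S h ^ (k + 2) * ρ (il x)) / (D : ℂ)) := by
    intro h hlt k
    induction k with
    | zero =>
      intro x
      have hpR : p ∣ (R h).card := by
        have hP : IsPGroup p M := fun g => ⟨1, by simpa using hexp g⟩
        obtain ⟨a, ha⟩ := IsPGroup.iff_card.mp hP
        obtain ⟨b, -, hb⟩ := (Nat.dvd_prime_pow hpp).mp (Dvd.intro _ ((hcardR h).trans ha))
        rw [hb]
        refine dvd_pow_self p fun hb0 => ?_
        have := hcardR h
        rw [hb, hb0, pow_zero, one_mul] at this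
        omega
      let ind : WE K → WE K → ℂ := fun r r' => if (r * (r' * x)).m = 1 then 1 else 0
      have e : tr (S h ^ 2 * ρ (il x)) / (D : ℂ) =
          (∑ r' ∈ R h, ∑ r ∈ R h, (tr (ρ (il (r * (r' * x)))) / (D : ℂ) - ind r r')) +
            ∑ r' ∈ R h, ∑ r ∈ R h, ind r r' := by
        simp only [pow_two, S, Finset.mul_sum, Finset.sum_mul, map_sum, Finset.sum_div,
          ← Finset.sum_add_distrib]
        refine Finset.sum_congr rfl fun r' _ => Finset.sum_congr rfl fun r _ => ?_
        rw [sub_add_cancel, ← map_mul ρ, ← map_mul ρ, ← map_mul il, ← map_mul il, mul_assoc]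
      rw [e]
      refine (Rad.sum _ _ fun r' _ => Rad.sum _ _ fun r _ => ?_).add ?_
      · rw [htr, hres', hθ]
        simp only [ind]
        split_ifs
        · rw [mul_div_cancel_left₀ _ hdC]; exact hψrad _
        · simpa using Rad.zero
      · -- the projection of `R h` is a subgroup
        let mv : M →* M :=
          { toFun := fun w => w * α h w⁻¹
            map_one' := by simp
            map_mul' := fun a b => by
              rw [mul_inv, map_mul, mul_mul_mul_comm] }
        have hproj : ∀ u : M, (∃ r ∈ R h, r.m = u) ↔ u ∈ mv.range := fun u =>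
          ⟨fun ⟨r, hr, hru⟩ => by
            obtain ⟨e, -, rfl⟩ := Finset.mem_image.mp hr
            exact ⟨e.m, hru⟩,
          fun ⟨w, hw⟩ => ⟨f h ⟨w, 0⟩, Finset.mem_image_of_mem _ (Finset.mem_univ _), hw⟩⟩
        by_cases hx : x.m ∈ mv.range
        · rw [Finset.sum_congr rfl (g := fun _ => (1 : ℂ)) (fun r' hr' => ?_), Finset.sum_const,
            nsmul_one]
          · exact Rad.natCast_of_dvd hpR
          · have hmem : (r'.m * x.m)⁻¹ ∈ mv.range :=
              inv_mem (mul_mem ((hproj _).mp ⟨r', hr', rfl⟩) hx)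
            obtain ⟨r, hr, hru⟩ := (hproj _).mpr hmem
            rw [Finset.sum_eq_single r (fun r'' hr'' hne => ?_) (fun h => absurd hr h)]
            · refine if_pos ?_
              show r.m * (r'.m * x.m) = 1
              rw [hru, inv_mul_cancel]
            · refine if_neg fun h3 => hne (hinj h r'' hr'' r hr ?_)
              rw [hru]
              exact eq_inv_of_mul_eq_one_left h3
        · rw [Finset.sum_eq_zero fun r' hr' => Finset.sum_eq_zero fun r hr => if_neg fun h3 => hx ?_]
          · exact Rad.zero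
          · have h4 : x.m = r'.m⁻¹ * r.m⁻¹ := by
              have h3' : r.m * (r'.m * x.m) = 1 := h3
              rw [eq_inv_mul_iff_mul_eq, eq_inv_iff_mul_eq_one, mul_comm]
              exact h3'
            rw [h4]
            exact mul_mem (inv_mem ((hproj _).mp ⟨r', hr', rfl⟩)) (inv_mem ((hproj _).mp ⟨r, hr, rfl⟩))
    | succ k ih =>
      intro x
      rw [show k + 1 + 2 = (k + 2) + 1 from rfl, pow_succ, mul_assoc, Finset.sum_mul, Finset.mul_sum,
        map_sum, Finset.sum_div]
      refine Rad.sum _ _ fun r _ => ?_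
      rw [← map_mul, ← map_mul]
      exact ih _
  have hμpow : ∀ h, μ h ^ (2 * Nat.card C) =
      tr (S h ^ (2 * Nat.card C) * ρ (il 1)) / (D : ℂ) := by
    intro h
    have h1 : S h = μ h • ρ (SemidirectProduct.inr h⁻¹) := by
      calc S h = (S h * ρ (SemidirectProduct.inr h)) * ρ (SemidirectProduct.inr h⁻¹) := by
            rw [mul_assoc, ← map_mul, map_inv, mul_inv_cancel, map_one, mul_one]
        _ = _ := by rw [hS, smul_mul_assoc, one_mul]
    rw [h1, smul_pow, ← map_pow ρ, ← map_pow SemidirectProduct.inr, pow_mul (h⁻¹), pow_card_eq_one',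
      map_one, map_one, map_one, map_one, mul_one, map_smul, smul_eq_mul, eq_div_iff hdC]
    congr 1
    show _ = LinearMap.trace ℂ _ (1 : Module.End ℂ (Fin D → ℂ))
    rw [Module.End.one_eq_id, LinearMap.trace_id, Module.finrank_fin_fun]
  have hquot : ∀ h, Γ 1 / Γ h = μ h⁻¹ := by
    intro h
    have hFinv : F h⁻¹ = F h := by
      refine Nat.card_congr (Equiv.subtypeEquivRight fun w => ?_)
      rw [mem_ker_move, mem_ker_move, map_inv, MulAut.inv_apply, MulEquiv.symm_apply_eq]
      exact eq_comm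
    have hne : Γ h ≠ 0 := fun h0 => hF0 h (by rw [← hnorm, h0, zero_mul])
    show _ = (D : ℂ) * Γ h⁻¹ / (F h⁻¹ : ℂ)
    rw [hΓinv, hFinv, hΓ1, div_eq_div_iff hne (hF0 h), ← hnorm h]
    ring
  have hμint : ∀ h, IsIntegral ℤ (μ h) := fun h => IsIntegral.of_pow
    (Nat.mul_pos two_pos Nat.card_pos) (by rw [hμpow]; exact hpowint h _ _)
  refine ⟨Γ, IsZbar.of_isCharacter hΓchar, hnorm, fun h => ?_, fun h hlt => ?_,
    fun h => InCyc.of_character hΓchar h, fixCard_pow α hexp hpp, fixCard_le α⟩
  · rw [hquot]; exact hμint _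
  · rw [hquot]
    refine Rad.of_pow (k := 2 * Nat.card C) (hμint _) ?_
    have hlt' : F h⁻¹ < Nat.card M := by
      rw [← fixCard_one α]
      refine lt_of_le_of_lt (le_of_eq ?_) hlt
      refine Nat.card_congr (Equiv.subtypeEquivRight fun w => ?_)
      rw [mem_ker_move, mem_ker_move, map_inv, MulAut.inv_apply, MulEquiv.symm_apply_eq]
      exact eq_comm
    obtain ⟨k, hk⟩ : ∃ k, 2 * Nat.card C = k + 2 := ⟨2 * Nat.card C - 2, by
      have := Nat.card_pos (α := C); omega⟩
    rw [hμpow, hk]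
    exact hpowrad _ hlt' k 1

end Cfsg.Agent.KGV
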